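import Cfsg.Agent.Lib.Zsigmondy

/-!
# S2465, orthogonal groups: arithmetic (helper126)
-/

set_option autoImplicit false

namespace Cfsg.Agent.H126.PwO

/-- odd `d` -/
theorem not_dvd_add {q s d : ℕ} (hq : 1 ≤ q) (hodd : Odd d) (hs : s ∣ q ^ d - 1)
    (hmin : ∀ k, 0 < k → k < d → ¬ s ∣ q ^ k - 1) (h2 : ¬ s ∣ 2) : ∀ i < d, ¬ s ∣ q ^ i + 1 := by
  intro i hi h
  rcases Nat.eq_zero_or_pos i with rfl | hi0
  · exact h2 (by simpa using h)
  have h3 : s ∣ q ^ (2 * i) - 1 := by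
    have h4 : q ^ (2 * i) - 1 = (q ^ i + 1) * (q ^ i - 1) := by
      have h5 := Nat.sq_sub_sq (q ^ i) 1
      rw [one_pow] at h5
      rw [mul_comm 2 i, pow_mul, h5]
    rw [h4]
    exact h.mul_right _
  obtain ⟨k, hk⟩ := hodd
  rcases lt_trichotomy (2 * i) d with h5 | h5 | h5
  · exact hmin _ (by omega) h5 h3
  · omega
  · have h6 : q ^ (2 * i) - 1 = q ^ (2 * i - d) * (q ^ d - 1) + (q ^ (2 * i - d) - 1) := by
      have h7 : q ^ (2 * i) = q ^ (2 * i - d) * q ^ d := by rw [← pow_add]; congr 1; omega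
      have h8 : 1 ≤ q ^ (2 * i - d) := Nat.one_le_pow _ _ hq
      have h9 : 1 ≤ q ^ d := Nat.one_le_pow _ _ hq
      rw [h7, Nat.mul_sub, mul_one]
      have h10 : q ^ (2 * i - d) ≤ q ^ (2 * i - d) * q ^ d := Nat.le_mul_of_pos_right _ h9
      omega
    rw [h6] at h3
    exact hmin _ (by omega) (by omega) ((Nat.dvd_add_right (hs.mul_left _)).1 h3)

/-- `s` a prime such that `q` has order `d` modulo `s` -/
theorem min_of_order {q s d : ℕ} (hq : 1 ≤ q) (h : orderOf (q : ZMod s) = d) :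
    s ∣ q ^ d - 1 ∧ ∀ k, 0 < k → k < d → ¬ s ∣ q ^ k - 1 := by
  constructor
  · rw [Lib.Zsigmondy.dvd_pow_sub_one_iff (by omega), h]
  · intro k h1 h2 h3
    rw [Lib.Zsigmondy.dvd_pow_sub_one_iff (by omega), h] at h3
    have := Nat.le_of_dvd h1 h3
    omega

theorem div_eq {q d : ℕ} (hq : 2 ≤ q) : ∃ M, q ^ d - 1 = M * (q - 1) ∧ (q ^ d - 1) / (q - 1) = M := by
  have h1 : q - 1 ∣ q ^ d - 1 := by
    have := Nat.sub_dvd_pow_sub_pow q 1 d
    rwa [one_pow] at this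
  obtain ⟨M, hM⟩ := h1
  refine ⟨M, by rw [hM, mul_comm], ?_⟩
  rw [hM, Nat.mul_div_cancel_left _ (by omega)]

/-- norm one -/
theorem dvd_div {q s d : ℕ} (hq : 2 ≤ q) (hs : s.Prime) (hd : 2 ≤ d) (h : s ∣ q ^ d - 1)
    (hmin : ∀ k, 0 < k → k < d → ¬ s ∣ q ^ k - 1) : s ∣ (q ^ d - 1) / (q - 1) := by
  obtain ⟨M, hM, hM'⟩ := div_eq (d := d) hq
  rw [hM']
  rw [hM] at h
  rcases hs.dvd_mul.1 h with h1 | h1
  · exact h1
  · exact absurd (by rwa [pow_one]) (hmin 1 one_pos (by omega))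

/-- **odd degree, norm one** -/
theorem exists_prime_odd {q d : ℕ} (hq : 2 ≤ q) (hd : 3 ≤ d) (h26 : ¬ (q = 2 ∧ d = 6)) :
    ∃ s : ℕ, s.Prime ∧ 5 ≤ s ∧ d + 1 ≤ s ∧ s ∣ q ^ d - 1 ∧ ∀ k, 0 < k → k < d → ¬ s ∣ q ^ k - 1 := by
  obtain ⟨s, hs, ho⟩ := Lib.Zsigmondy.exists_prime_orderOf hq (n := d) (by omega) (by omega) h26
  have hsq : ¬ s ∣ q := by
    intro h
    have := Fact.mk hs
    rw [(ZMod.natCast_eq_zero_iff q s).2 h, orderOf_eq_zero] at ho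
    · omega
    · rw [isOfFinOrder_iff_pow_eq_one]
      rintro ⟨n, hn, h⟩
      rw [zero_pow (by omega)] at h
      exact zero_ne_one h
  have h1 := Lib.Zsigmondy.orderOf_dvd_pred hs hsq
  rw [ho] at h1
  have h2 : d ≤ s - 1 := Nat.le_of_dvd (by have := hs.two_le; omega) h1
  have h3 : s ≠ 4 := by rintro rfl; norm_num at hs
  obtain ⟨h4, h5⟩ := min_of_order (by omega) ho
  exact ⟨s, hs, by omega, by omega, h4, h5⟩

theorem coprime_six {s : ℕ} (hs : s.Prime) (h : 5 ≤ s) : s.Coprime 6 := by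
  rw [hs.coprime_iff_not_dvd]
  intro h1
  have h2 := Nat.le_of_dvd (by norm_num) h1
  interval_cases s
  · exact absurd h1 (by norm_num)
  · exact absurd hs (by norm_num)

/-- a prime `≥ 5` dividing `r ^ e - 1`, `r` of order `n` -/
theorem exists_prime_ge {r n : ℕ} (hr : 2 ≤ r) (hn : 3 ≤ n) : ∃ s : ℕ, s.Prime ∧ 5 ≤ s ∧ s ∣ r ^ n - 1 := by
  by_cases h : r = 2 ∧ n = 6
  · exact ⟨7, by norm_num, by norm_num, by rw [h.1, h.2]; norm_num⟩
  · obtain ⟨s, h1, h2, -, h3, -⟩ := exists_prime_odd hr hn h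
    exact ⟨s, h1, h2, h3⟩

/-- **the case `N = 6`, `q = r ^ e`, `e ≥ 3`** -/
theorem exists_six {r e d : ℕ} (hr : 2 ≤ r) (he : 3 ≤ e) (hd : 2 ≤ d) (h8 : ¬ (r ^ e = 8 ∧ d = 2)) :
    ∃ s : ℕ, s.Coprime 6 ∧ s ∣ (r ^ e) ^ d - 1 ∧ (∀ k, 0 < k → k < d → ¬ s ∣ (r ^ e) ^ k - 1) ∧
      ¬ s ∣ ((r ^ e) ^ d - 1) / (r ^ e - 1) * 2 := by
  have hq : 2 ≤ r ^ e := hr.trans (Nat.le_self_pow (by omega) r)
  obtain ⟨l, hl, hl5, hld⟩ := exists_prime_ge hr he
  have h26 : ¬ (r = 2 ∧ e * d = 6) := by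
    rintro ⟨rfl, h⟩
    have h1 : e * 2 ≤ 6 := by rw [← h]; exact Nat.mul_le_mul_left _ hd
    have h2 : e = 3 := by omega
    subst h2
    have h3 : d = 2 := by omega
    exact h8 ⟨by norm_num, h3⟩
  have hed : 6 ≤ e * d := le_trans (by norm_num) (Nat.mul_le_mul he hd)
  obtain ⟨p, hp, hp5, -, hpd, hpm⟩ := exists_prime_odd hr (show 3 ≤ e * d by omega) h26
  have hpm' : ∀ k, 0 < k → k < d → ¬ p ∣ (r ^ e) ^ k - 1 := by
    intro k h1 h2 h3
    rw [← pow_mul] at h3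
    exact hpm (e * k) (Nat.mul_pos (by omega) h1) (Nat.mul_lt_mul_of_pos_left h2 (by omega)) h3
  have hlp : l ≠ p := by
    rintro rfl
    exact hpm' 1 one_pos (by omega) (by rwa [pow_one])
  obtain ⟨M, hM, hM'⟩ := div_eq (d := d) hq
  have hD0 : (r ^ e) ^ d - 1 ≠ 0 := by
    have : 2 ^ 1 ≤ (r ^ e) ^ d := (Nat.pow_le_pow_left hq 1).trans (Nat.pow_le_pow_right (by omega) (by omega))
    omega
  have hM0 : M ≠ 0 := by rintro rfl; rw [zero_mul] at hM; exact hD0 hM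
  obtain ⟨a, ha⟩ : ∃ a, a = padicValNat l ((r ^ e) ^ d - 1) := ⟨_, rfl⟩
  have hlF : Fact l.Prime := ⟨hl⟩
  have hla : l ^ a ∣ (r ^ e) ^ d - 1 := by rw [ha]; exact pow_padicValNat_dvd
  have hcop : Nat.Coprime p (l ^ a) := Nat.Coprime.pow_right _ ((Nat.coprime_primes hp hl).2 hlp.symm)
  refine ⟨p * l ^ a, ?_, ?_, ?_, ?_⟩
  · exact Nat.Coprime.mul_left (coprime_six hp hp5) ((coprime_six hl hl5).pow_left _)
  · refine Nat.Coprime.mul_dvd_of_dvd_of_dvd hcop ?_ hla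
    rw [← pow_mul]; exact hpd
  · intro k h1 h2 h3
    exact hpm' k h1 h2 ((dvd_mul_right _ _).trans h3)
  · intro h
    rw [hM'] at h
    have h1 : l ^ a ∣ M * 2 := (dvd_mul_left _ _).trans h
    have h2 : (l ^ a).Coprime 2 := Nat.Coprime.pow_left _ ((Nat.coprime_primes hl Nat.prime_two).2 (by omega))
    have h3 : l ^ a ∣ M := h2.dvd_of_dvd_mul_right h1
    have h4 : a = padicValNat l M + padicValNat l (r ^ e - 1) := by
      rw [ha, hM, padicValNat.mul hM0 (by omega)]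
    have h5 : 1 ≤ padicValNat l (r ^ e - 1) := one_le_padicValNat_of_dvd (by omega) hld
    have h6 : a ≤ padicValNat l M := (padicValNat_dvd_iff_le hM0).1 h3
    omega

/-- **the case `N = r ≥ 5`** -/
theorem exists_own {q d r : ℕ} (hr : r ∣ q) (hq : 4 ≤ q) (hd : 2 ≤ d) :
    ∃ s : ℕ, s.Coprime r ∧ s ∣ q ^ d - 1 ∧ (∀ k, 0 < k → k < d → ¬ s ∣ q ^ k - 1) ∧
      ¬ s ∣ (q ^ d - 1) / (q - 1) * 2 := by
  obtain ⟨M, hM, hM'⟩ := div_eq (q := q) (d := d) (by omega)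
  have hpow : ∀ k, 1 ≤ q ^ k := fun k => Nat.one_le_pow _ _ (by omega)
  refine ⟨q ^ d - 1, ?_, dvd_rfl, ?_, ?_⟩
  · have h1 : (q ^ d - 1).Coprime (q ^ d) := by
      have := Nat.coprime_self_add_right (m := q ^ d - 1) (n := 1)
      rw [Nat.sub_add_cancel (hpow d)] at this
      exact this.2 (Nat.coprime_one_right _)
    exact h1.coprime_dvd_right (hr.trans (dvd_pow_self q (by omega)))
  · intro k h1 h2 h3
    have h4 : q ^ k < q ^ d := Nat.pow_lt_pow_right (by omega) h2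
    have h5 : q ^ 1 ≤ q ^ k := Nat.pow_le_pow_right (by omega) h1
    rw [pow_one] at h5
    have h6 := Nat.le_of_dvd (by omega) h3
    omega
  · intro h
    rw [hM', hM] at h
    have hM0 : 0 < M := by
      rcases Nat.eq_zero_or_pos M with h0 | h0
      · rw [h0, zero_mul] at hM
        have : q ^ 1 ≤ q ^ d := Nat.pow_le_pow_right (by omega) (by omega)
        rw [pow_one] at this
        omega
      · exact h0
    have h1 := Nat.le_of_dvd (by omega) h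
    have h2 := Nat.le_of_mul_le_mul_left h1 hM0
    omega

end Cfsg.Agent.H126.PwO
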