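import Cfsg.Agent.H126.PwO.Crit
import Cfsg.Agent.H126.PwO.Fld
import Cfsg.Agent.H126.PwO.Num
import Cfsg.Agent.H962.PP.Psl

/-!
# S2465, orthogonal groups: from a corner and two polynomials to a product (helper126)

* `CopP p h` : every `X` with characteristic polynomial `p` satisfies `Cop X h`;
* `split` : `A = X * Y` with prescribed characteristic polynomials (helper962's theorem);
* `prO_pol` : Schur complement `1`, corner `A`.
-/

set_option autoImplicit false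
set_option linter.unusedSectionVars false

namespace Cfsg.Agent.H126.PwO

open QuadraticMap Matrix Polynomial Cfsg.Agent.LieClassical.OrthCore Cfsg.Agent.LieClassical.OrthTrans
  Cfsg.Agent.LieClassical.OrthFinite Cfsg.Agent.H140.OreO

variable {F V : Type*} [Field F] [AddCommGroup V] [Module F V] {m : ℕ} {Q : QuadraticForm F V}

/-- every `X` with characteristic polynomial `p` satisfies `Cop X h` -/
def CopP (m : ℕ) (p : F[X]) (h : V ≃ₗ[F] V) : Prop :=
  ∀ X : GL (Fin m) F, (X : Matrix (Fin m) (Fin m) F).charpoly = p → Cop X h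

theorem copP_of_cop {p : F[X]} {h : V ≃ₗ[F] V} (h1 : Un (h : Module.End F V) p)
    (h2 : Un (h : Module.End F V) p.reverse) (h3 : IsCoprime p p.reverse) : CopP m p h := by
  intro X hX
  apply cop_of_charpoly <;> rw [hX] <;> assumption

theorem copP_of_fix {f : F[X]} {h : V ≃ₗ[F] V} (hf1 : f.eval 1 ≠ 0) (hf : IsCoprime f f.reverse)
    (h1 : Un (h : Module.End F V) ((X - 1) * f)) (h2 : Un (h : Module.End F V) ((X - 1) * f).reverse) :
    CopP m ((X - 1) * f) h := by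
  intro X hX
  exact cop_of_fix hX hf1 hf h1 h2

theorem det_of_charpoly {X : Matrix (Fin m) (Fin m) F} {p : F[X]} (hX : X.charpoly = p)
    (hp : (-1) ^ m * p.coeff 0 = 1) : X.det = 1 := by
  rw [det_eq_sign_charpoly_coeff, hX, Fintype.card_fin, hp]

theorem pow_of_charpoly {X : GL (Fin m) F} {p : F[X]} (hX : (X : Matrix (Fin m) (Fin m) F).charpoly = p) {s : ℕ}
    (hs : p ∣ Polynomial.X ^ s - 1) : X ^ s = 1 := by
  apply Units.ext
  rw [Units.val_pow_eq_pow_val, Units.val_one]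
  exact H962.PP.pow_eq_one_of_charpoly (by rw [hX]; exact hs)

/-- products with prescribed characteristic polynomials -/
theorem split {k : ℕ} {A : Matrix (Fin (k + 2)) (Fin (k + 2)) F} (hdet : A.det = 1)
    (hA : A = 1 ∨ ∀ c : F, A ≠ c • (1 : Matrix (Fin (k + 2)) (Fin (k + 2)) F)) {p f : F[X]} {c : F}
    (hp : p.Monic) (hpd : p.natDegree = k + 2) (hp0 : (-1) ^ (k + 2) * p.coeff 0 = 1)
    (hf : f.Monic) (hfd : f.natDegree = k + 1) (hf0 : (-1) ^ (k + 1) * f.coeff 0 * c = 1) :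
    ∃ X Y : GL (Fin (k + 2)) F, A = ((X * Y : GL (Fin (k + 2)) F) : Matrix (Fin (k + 2)) (Fin (k + 2)) F) ∧
      (X : Matrix (Fin (k + 2)) (Fin (k + 2)) F).charpoly = p ∧
      ((Y : Matrix (Fin (k + 2)) (Fin (k + 2)) F).charpoly = (Polynomial.X - C c) * f ∨ Y = X⁻¹) := by
  have hp0' : p.coeff 0 ≠ 0 := by rintro h; rw [h, mul_zero] at hp0; exact zero_ne_one hp0
  have hf0' : f.coeff 0 ≠ 0 := by rintro h; rw [h, mul_zero, zero_mul] at hf0; exact zero_ne_one hf0
  rcases hA with rfl | hA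
  · obtain ⟨X, hX⟩ := exists_matrix p hp hp0' hpd
    exact ⟨X, X⁻¹, by rw [mul_inv_cancel, Units.val_one], hX, Or.inr rfl⟩
  · have hsc : ∀ c : F, A ≠ scalar (Fin (k + 2)) c := by
      intro c hc
      apply hA c
      rw [hc, scalar_apply, smul_one_eq_diagonal]
    obtain ⟨x, y, hxy, hxp, -, c', hc0, hyc⟩ := H962.PP.exists_mul A (by rw [hdet]; exact one_ne_zero)
      hsc hp hpd hp0' hf hfd hf0'
    have hxdet : x.det = 1 := det_of_charpoly hxp hp0
    have hydet : y.det = 1 := by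
      have h1 := hdet
      rwa [hxy, det_mul, hxdet, one_mul] at h1
    have hc : c' = c := by
      rw [det_eq_sign_charpoly_coeff, hyc, Fintype.card_fin, mul_coeff_zero, coeff_sub,
        coeff_X_zero, coeff_C_zero, zero_sub] at hydet
      have h1 : (-1 : F) ^ (k + 2) * (-c' * f.coeff 0) = c' * ((-1) ^ (k + 1) * f.coeff 0) := by ring
      rw [h1] at hydet
      have h2 : (-1 : F) ^ (k + 1) * f.coeff 0 ≠ 0 :=
        mul_ne_zero (pow_ne_zero _ (neg_ne_zero.2 one_ne_zero)) hf0'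
      apply mul_right_cancel₀ h2
      rw [hydet, mul_comm c, hf0]
    obtain ⟨X, hX⟩ : ∃ X : GL (Fin (k + 2)) F, (X : Matrix _ _ F) = x :=
      ⟨Matrix.GeneralLinearGroup.mkOfDetNeZero x (by rw [hxdet]; exact one_ne_zero), rfl⟩
    obtain ⟨Y, hY⟩ : ∃ Y : GL (Fin (k + 2)) F, (Y : Matrix _ _ F) = y :=
      ⟨Matrix.GeneralLinearGroup.mkOfDetNeZero y (by rw [hydet]; exact one_ne_zero), rfl⟩
    refine ⟨X, Y, ?_, by rw [hX, hxp], Or.inl ?_⟩
    · rw [Units.val_mul, hX, hY, hxy]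
    · rw [hY, hyc, hc]

/-- **Schur complement `1` and two polynomials.** -/
theorem prO_pol [Finite F] [FiniteDimensional F V] {N k : ℕ} (hN : 5 ≤ Module.finrank F V)
    {w w' : Fin (k + 2) → V} (hQ : Nondeg Q)
    (hf : Frame Q w w') {g : V ≃ₗ[F] V} (hg : g ∈ O Q) (hS : SchurOne Q g w w')
    (hdet : (corner Q g w w').det = 1)
    (hA : corner Q g w w' = 1 ∨ ∀ c : F, corner Q g w w' ≠ c • (1 : Matrix (Fin (k + 2)) (Fin (k + 2)) F))
    {p f : F[X]} {c : F} (hp : p.Monic) (hpd : p.natDegree = k + 2) (hp0 : (-1) ^ (k + 2) * p.coeff 0 = 1)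
    (hfm : f.Monic) (hfd : f.natDegree = k + 1) (hf0 : (-1) ^ (k + 1) * f.coeff 0 * c = 1)
    {x : perp Q w w' ≃ₗ[F] perp Q w w'} (hx : x ∈ O (res Q w w'))
    (h1 : CopP (k + 2) p x) (h2 : CopP (k + 2) ((Polynomial.X - C c) * f) x⁻¹)
    {j : ℕ} (hj : Odd j) (hxj : x ^ j = 1) {s t : ℕ} (hs : s.Coprime N) (ht : t.Coprime N)
    (hps : p ∣ Polynomial.X ^ s - 1) (hft : (Polynomial.X - C c) * f ∣ Polynomial.X ^ t - 1)
    (hxs : x ^ s = 1) (hxt : x ^ t = 1) : PrO N Q g := by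
  obtain ⟨X, Y, hXY, hX, hY⟩ := split hdet hA hp hpd hp0 hfm hfd hf0
  have hXd : (X : Matrix (Fin (k + 2)) (Fin (k + 2)) F).det = 1 := det_of_charpoly hX hp0
  have hXs : X ^ s = 1 := pow_of_charpoly hX hps
  rcases hY with hY | rfl
  · have hYd : (Y : Matrix (Fin (k + 2)) (Fin (k + 2)) F).det = 1 := by
      refine det_of_charpoly hY ?_
      rw [mul_coeff_zero, coeff_sub, coeff_X_zero, coeff_C_zero, zero_sub]
      linear_combination hf0
    exact prO_of_corner hN hQ hf hg hS hXY hx (h1 X hX) (h2 Y hY) hXd hYd hj hxj hs ht hXs hxs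
      (pow_of_charpoly hY hft) hxt
  · have hYd : ((X⁻¹ : GL (Fin (k + 2)) F) : Matrix (Fin (k + 2)) (Fin (k + 2)) F).det = 1 := by
      have h3 : ((X * X⁻¹ : GL (Fin (k + 2)) F) : Matrix (Fin (k + 2)) (Fin (k + 2)) F).det = 1 := by
        rw [mul_inv_cancel, Units.val_one, det_one]
      rwa [Units.val_mul, det_mul, hXd, one_mul] at h3
    refine prO_of_corner hN hQ hf hg hS hXY hx (h1 X hX) (Cop.inv (h1 X hX)) hXd hYd hj hxj hs hs hXs hxs ?_ hxs
    rw [inv_pow, hXs, inv_one]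

/-- **Schur complement `1`, two given matrices.** -/
theorem prO_mat [Finite F] [FiniteDimensional F V] {N m : ℕ} (hN : 5 ≤ Module.finrank F V)
    {w w' : Fin m → V} (hQ : Nondeg Q)
    (hf : Frame Q w w') {g : V ≃ₗ[F] V} (hg : g ∈ O Q) (hS : SchurOne Q g w w')
    {X Y : Matrix (Fin m) (Fin m) F} (hXY : corner Q g w w' = X * Y) (hX : X.det = 1) (hY : Y.det = 1)
    (hc1 : CopP m X.charpoly (1 : perp Q w w' ≃ₗ[F] perp Q w w'))
    (hc2 : CopP m Y.charpoly (1 : perp Q w w' ≃ₗ[F] perp Q w w')) {s t : ℕ} (hs : s.Coprime N) (ht : t.Coprime N)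
    (hXs : X ^ s = 1) (hYt : Y ^ t = 1) : PrO N Q g := by
  obtain ⟨X', hX'⟩ : ∃ X' : GL (Fin m) F, (X' : Matrix _ _ F) = X :=
    ⟨Matrix.GeneralLinearGroup.mkOfDetNeZero X (by rw [hX]; exact one_ne_zero), rfl⟩
  obtain ⟨Y', hY'⟩ : ∃ Y' : GL (Fin m) F, (Y' : Matrix _ _ F) = Y :=
    ⟨Matrix.GeneralLinearGroup.mkOfDetNeZero Y (by rw [hY]; exact one_ne_zero), rfl⟩
  refine prO_of_corner hN hQ hf hg hS (X := X') (Y := Y') (x := 1) ?_ (O _).one_mem (hc1 X' (by rw [hX'])) ?_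
    (by rw [hX', hX]) (by rw [hY', hY]) (k := 1) odd_one (one_pow 1) hs ht ?_ (one_pow s) ?_ (one_pow t)
  · rw [Units.val_mul, hX', hY', hXY]
  · rw [inv_one]; exact hc2 Y' (by rw [hY'])
  · apply Units.ext
    rw [Units.val_pow_eq_pow_val, Units.val_one, hX', hXs]
  · apply Units.ext
    rw [Units.val_pow_eq_pow_val, Units.val_one, hY', hYt]

end Cfsg.Agent.H126.PwO
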