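import Cfsg.Agent.H934.MF.Blk
import Cfsg.Agent.H934.MF.Poly

/-!
# Kernel checks with matrices over a field with `p` elements, `p` prime (helper126)
-/

set_option autoImplicit false
set_option linter.unusedSectionVars false

namespace Cfsg.Agent.H126.PwO.Cert

open Matrix Polynomial Cfsg.Agent.H934.MF

variable {F : Type*} [Field F] {p : ℕ}

/-- `a x + y` -/
def zw (p a : ℕ) (x y : List ℕ) : List ℕ := List.zipWith (fun u v => (a * u + v) % p) x y

/-- `v R + acc` -/
def vm (p : ℕ) : List ℕ → List (List ℕ) → List ℕ → List ℕ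
  | a :: v, r :: R, acc => vm p v R (zw p a r acc)
  | _, _, acc => acc

theorem length_zw {a : ℕ} {x y : List ℕ} (h : x.length = y.length) : (zw p a x y).length = y.length := by
  rw [zw, List.length_zipWith, h, min_self]

/-- the entries in `F` -/
def g (F : Type*) [Field F] (l : List ℕ) (j : ℕ) : F := ((l.getD j 0 : ℕ) : F)

theorem g_zw [CharP F p] {a : ℕ} {x y : List ℕ} (h : x.length = y.length) (j : ℕ) :
    g F (zw p a x y) j = a * g F x j + g F y j := by
  rw [g, g, g, zw]
  by_cases hj : j < y.length
  · rw [List.getD_eq_getElem _ _ (by rw [List.length_zipWith, h, min_self]; exact hj), List.getElem_zipWith,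
      List.getD_eq_getElem _ _ (by rw [h]; exact hj), List.getD_eq_getElem _ _ hj, CharP.cast_eq_mod F p,
      Nat.mod_mod, ← CharP.cast_eq_mod F p, Nat.cast_add, Nat.cast_mul]
  · rw [List.getD_eq_default _ _ (by rw [List.length_zipWith, h, min_self]; omega),
      List.getD_eq_default _ _ (by rw [h]; omega), List.getD_eq_default _ _ (by omega)]
    simp

theorem length_vm : ∀ (v : List ℕ) (R : List (List ℕ)) (acc : List ℕ), (∀ r ∈ R, r.length = acc.length) →
    (vm p v R acc).length = acc.length
  | [], _, acc, _ => by rw [vm]; simp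
  | a :: v, [], acc, _ => by rw [vm]; simp
  | a :: v, r :: R, acc, h => by
    have h1 := h r (List.mem_cons_self)
    rw [vm, length_vm v R _ (fun r' hr' => by rw [length_zw h1, h r' (List.mem_cons_of_mem _ hr')]), length_zw h1]

theorem g_vm [CharP F p] (j : ℕ) : ∀ (R : List (List ℕ)) (v : List ℕ) (acc : List ℕ),
    (∀ r ∈ R, r.length = acc.length) → v.length = R.length →
    g F (vm p v R acc) j = g F acc j + ∑ k ∈ Finset.range R.length, g F v k * g F (R.getD k []) j
  | [], [], acc, _, _ => by simp [vm]
  | [], a :: v, acc, _, h => absurd h (by simp)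
  | r :: R, [], acc, _, h => absurd h (by simp)
  | r :: R, a :: v, acc, h, hl => by
    have h1 := h r (List.mem_cons_self)
    rw [vm, g_vm j R v _ (fun r' hr' => by rw [length_zw h1, h r' (List.mem_cons_of_mem _ hr')])
      (by simpa using hl), g_zw h1, List.length_cons, Finset.sum_range_succ']
    simp only [List.getD_cons_succ, List.getD_cons_zero, g]
    ring

/-- row vector -/
def row (F : Type*) [Field F] (n : ℕ) (l : List ℕ) : Fin n → F := fun j => g F l j

/-- matrix from rows -/
def mat (F : Type*) [Field F] (n : ℕ) (R : List (List ℕ)) : Matrix (Fin n) (Fin n) F :=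
  Matrix.of fun i j => g F (R.getD i []) j

/-- well-formed square matrices -/
def WF (n : ℕ) (R : List (List ℕ)) : Prop := R.length = n ∧ ∀ r ∈ R, r.length = n

theorem row_vm [CharP F p] {n : ℕ} {R : List (List ℕ)} (hR : WF n R) {v acc : List ℕ} (hv : v.length = n)
    (ha : acc.length = n) : row F n (vm p v R acc) = row F n acc + row F n v ᵥ* mat F n R := by
  ext j
  rw [row, g_vm j R v acc (fun r hr => by rw [hR.2 r hr, ha]) (by rw [hv, hR.1]), hR.1, Pi.add_apply,
    Matrix.vecMul, dotProduct,
    ← Fin.sum_univ_eq_sum_range (fun k => g F v k * g F (R.getD k []) j)]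
  rfl

/-- the zero vector -/
def z0 (n : ℕ) : List ℕ := List.replicate n 0

theorem row_z0 (n : ℕ) : row F n (z0 n) = 0 := by
  ext j
  rw [row, g, z0]
  have : (List.replicate n 0).getD (j : ℕ) 0 = 0 := by
    rw [List.getD_eq_getElem _ _ (by rw [List.length_replicate]; exact j.2), List.getElem_replicate]
  rw [this, Nat.cast_zero, Pi.zero_apply]

/-- product of matrices -/
def mulR (p n : ℕ) (A B : List (List ℕ)) : List (List ℕ) := A.map fun a => vm p a B (z0 n)

theorem getD_map {α β : Type*} (f : α → β) (l : List α) (i : ℕ) (a : α) (b : β) (hi : i < l.length) :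
    (l.map f).getD i b = f (l.getD i a) := by
  rw [List.getD_eq_getElem _ _ (by rw [List.length_map]; exact hi), List.getElem_map,
    List.getD_eq_getElem _ _ hi]

theorem mat_mulR [CharP F p] {n : ℕ} {A B : List (List ℕ)} (hA : WF n A) (hB : WF n B) :
    mat F n (mulR p n A B) = mat F n A * mat F n B := by
  ext i j
  have hi : (i : ℕ) < A.length := by rw [hA.1]; exact i.2
  have h1 : (mulR p n A B).getD i [] = vm p (A.getD i []) B (z0 n) := by
    rw [mulR, getD_map _ _ _ [] _ hi]
  have h2 : (A.getD i []).length = n := by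
    rw [List.getD_eq_getElem _ _ hi]; exact hA.2 _ (List.getElem_mem _)
  rw [mat, Matrix.of_apply, h1]
  have hz : (z0 n).length = n := by rw [z0, List.length_replicate]
  have h3 := congrFun (row_vm (F := F) (p := p) hB h2 hz) j
  rw [row_z0, zero_add] at h3
  exact h3

/-- the check `v f(X) = acc` -/
def kr (p n : ℕ) (R : List (List ℕ)) : List ℕ → List ℕ → List ℕ → Bool
  | [], v, acc => v == acc
  | b :: l, v, acc => kr p n R l (vm p v R (z0 n)) (zw p (p - b) v acc)

theorem kr_spec [CharP F p] {n : ℕ} {R : List (List ℕ)} (hR : WF n R) : ∀ (l : List ℕ) (v acc : List ℕ),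
    (∀ b ∈ l, b ≤ p) → v.length = n → acc.length = n → kr p n R l v acc = true →
    row F n v ᵥ* (aeval (mat F n R) (mono (l.map fun b : ℕ => (b : F)))) = row F n acc
  | [], v, acc, _, _, _, h => by
    rw [kr, beq_iff_eq] at h
    have : mono (([] : List ℕ).map fun b : ℕ => (b : F)) = 1 := by
      rw [List.map_nil, mono, List.nil_append, toP, toP, mul_zero, add_zero, C_1]
    rw [this, map_one, Matrix.vecMul_one, h]
  | b :: l, v, acc, hb, hv, ha, h => by
    have hz : (z0 n).length = n := by rw [z0, List.length_replicate]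
    have h1 := kr_spec hR l _ _ (fun b' hb' => hb b' (List.mem_cons_of_mem _ hb'))
      (by rw [length_vm _ _ _ (fun r hr => by rw [hR.2 r hr, hz]), hz])
      (by rw [length_zw (by rw [hv, ha]), ha]) h
    have h2 : mono ((b :: l).map fun b : ℕ => (b : F)) = C ((b : ℕ) : F) + X * mono (l.map fun b : ℕ => (b : F)) := rfl
    rw [h2, map_add, map_mul, aeval_X, aeval_C, Matrix.vecMul_add, ← Matrix.vecMul_vecMul]
    have h3 := row_vm (F := F) (p := p) hR hv hz
    rw [row_z0, zero_add] at h3
    rw [← h3, h1]
    ext j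
    have h4 : row F n (zw p (p - b) v acc) j = ((p - b : ℕ) : F) * row F n v j + row F n acc j :=
      g_zw (by rw [hv, ha]) j
    rw [Pi.add_apply, h4, Nat.cast_sub (hb b (List.mem_cons_self)), CharP.cast_eq_zero F p, zero_sub]
    have h5 : (row F n v ᵥ* (algebraMap F (Matrix (Fin n) (Fin n) F)) ((b : ℕ) : F)) j =
        ((b : ℕ) : F) * row F n v j := by
      rw [Algebra.algebraMap_eq_smul_one, Matrix.vecMul_smul, Matrix.vecMul_one]
      rfl
    rw [h5]
    ring

/-- the first unit vector -/
def e1 (n : ℕ) : List ℕ := 1 :: List.replicate (n - 1) 0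

theorem charpoly_of_kr [CharP F p] {n : ℕ} (hn : 0 < n) {R : List (List ℕ)} (hR : WF n R) {l : List ℕ}
    (hl : l.length = n) (hlp : ∀ b ∈ l, b ≤ p) (hirr : Irreducible (mono (l.map fun b : ℕ => (b : F))))
    (h : kr p n R l (e1 n) (z0 n) = true) :
    (mat F n R).charpoly = mono (l.map fun b : ℕ => (b : F)) := by
  refine charpoly_of_vec hirr (mono_monic _) (by rw [mono_natDegree, List.length_map, hl]) (v := row F n (e1 n)) ?_ ?_
  · intro h0
    have := congrFun h0 ⟨0, hn⟩
    rw [row, g, e1] at this
    simp at this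
  · rw [kr_spec hR l (e1 n) (z0 n) hlp (by rw [e1, List.length_cons, List.length_replicate]; omega)
      (by rw [z0, List.length_replicate]) h, row_z0]

/-- digits -/
def dg (p c i : ℕ) : ℕ := c / p ^ i % p

/-- entries of the block companion matrix -/
def ent (p n b c i j : ℕ) : ℕ :=
  if b.testBit j = true then
    (if i ≤ j ∧ ((List.range n).all fun k => decide (i ≤ k → k < j → b.testBit k = false)) = true then dg p c i else 0)
  else if i = j + 1 then 1 else 0

/-- rows of the block companion matrix -/
def rowsB (p n b c : ℕ) : List (List ℕ) := (List.range n).map fun i => (List.range n).map fun j => ent p n b c i j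

theorem getD_range (n i : ℕ) (hi : i < n) : (List.range n).getD i 0 = i := by
  rw [List.getD_eq_getElem _ _ (by rw [List.length_range]; exact hi), List.getElem_range]

theorem mat_rowsB {n b c : ℕ} : mat F n (rowsB p n b c) =
    blk (fun i : Fin n => b.testBit i) (fun i => ((dg p c i : ℕ) : F)) := by
  ext i j
  rw [mat, Matrix.of_apply, g, rowsB, getD_map _ _ _ 0 _ (by rw [List.length_range]; exact i.2), getD_range n i i.2,
    getD_map _ _ _ 0 _ (by rw [List.length_range]; exact j.2), getD_range n j j.2, ent, blk, Matrix.of_apply]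
  have h1 : (((List.range n).all fun k => decide ((i : ℕ) ≤ k → k < (j : ℕ) → b.testBit k = false)) = true) ↔
      ∀ k : Fin n, i ≤ k → k < j → b.testBit k = false := by
    rw [List.all_eq_true]
    constructor
    · intro h k h2 h3
      have := h k (List.mem_range.2 k.2)
      rw [decide_eq_true_iff] at this
      exact this h2 h3
    · intro h k hk
      rw [decide_eq_true_iff]
      intro h2 h3
      exact h ⟨k, List.mem_range.1 hk⟩ h2 h3
  by_cases hb : b.testBit j = true
  · rw [if_pos hb, if_pos hb]
    by_cases h2 : (i : ℕ) ≤ j ∧ ((List.range n).all fun k => decide ((i : ℕ) ≤ k → k < (j : ℕ) → b.testBit k = false)) = true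
    · rw [if_pos h2, if_pos ⟨h2.1, h1.1 h2.2⟩]
    · rw [if_neg h2, if_neg (fun h3 => h2 ⟨h3.1, h1.2 h3.2⟩), Nat.cast_zero]
  · rw [if_neg hb, if_neg hb]
    by_cases h2 : (i : ℕ) = j + 1
    · rw [if_pos h2, if_pos h2, Nat.cast_one]
    · rw [if_neg h2, if_neg h2, Nat.cast_zero]

/-- decoding of a row -/
def unR (p n w : ℕ) : List ℕ := (List.range n).map fun i => dg p w i

/-- decoding of a matrix, rows of 8 bits -/
def unM (p n w : ℕ) : List (List ℕ) := (List.range n).map fun i => unR p n (w / 256 ^ i % 256)

theorem wf_unM (n w : ℕ) : WF n (unM p n w) := by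
  refine ⟨by rw [unM, List.length_map, List.length_range], fun r hr => ?_⟩
  rw [unM, List.mem_map] at hr
  obtain ⟨i, -, rfl⟩ := hr
  rw [unR, List.length_map, List.length_range]

end Cfsg.Agent.H126.PwO.Cert
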