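import Cfsg.Agent.H126.PwO.Step
import Mathlib.LinearAlgebra.Eigenspace.Zero

/-!
# S2465, orthogonal groups: criteria for `Cop` (helper126)
-/

set_option autoImplicit false
set_option linter.unusedSectionVars false

namespace Cfsg.Agent.H126.PwO

open QuadraticMap Matrix Polynomial Cfsg.Agent.LieClassical.OrthCore Cfsg.Agent.LieClassical.OrthTrans
  Cfsg.Agent.LieClassical.OrthFinite Cfsg.Agent.H140.OreO

variable {F V : Type*} [Field F] [AddCommGroup V] [Module F V] {n : ℕ} {Q : QuadraticForm F V}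

theorem inj_of_coprime {A : Matrix (Fin n) (Fin n) F} {f P : F[X]} (hP : aeval A P = 0) (h : IsCoprime f P)
    (w : Fin n → F) (hw : aeval (toLin' A) f w = 0) : w = 0 :=
  inj_of_unit (Un.of_coprime_mat hP h) w hw

/-- alternating intertwiners, `1` a simple eigenvalue -/
theorem alt_zero {A B : Matrix (Fin n) (Fin n) F} {f P : F[X]} (hA : aeval A ((X - 1) * f) = 0)
    (hf1 : f.eval 1 ≠ 0) (hE : Module.finrank F (Module.End.eigenspace (toLin' A) 1) ≤ 1)
    (hB : aeval B P = 0) (hfP : IsCoprime f P) (φ : (Fin n → F) →ₗ[F] (Fin n → F))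
    (h0 : ∀ a, a ⬝ᵥ φ a = 0) (hφ : ∀ a, φ (A *ᵥ a) = B *ᵥ φ a) : φ = 0 := by
  have hanti : ∀ a b, a ⬝ᵥ φ b = - (b ⬝ᵥ φ a) := by
    intro a b
    have h1 := h0 (a + b)
    rw [map_add, add_dotProduct, dotProduct_add, dotProduct_add, h0, h0, zero_add, add_zero] at h1
    exact eq_neg_of_add_eq_zero_left h1
  have hint : ∀ (c : F[X]) a, φ (aeval (toLin' A) c a) = aeval (toLin' B) c (φ a) := fun c a =>
    intertwine φ (toLin' A) (toLin' B) hφ c a
  have hker : ∀ a, aeval (toLin' A) f a = 0 → φ a = 0 := by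
    intro a ha
    apply inj_of_coprime hB hfP
    rw [← hint, ha, map_zero]
  have hA' : aeval (toLin' A) ((X - 1) * f) = 0 := by rw [aeval_toLin', hA, map_zero]
  have hcop : IsCoprime (X - 1 : F[X]) f := by
    have h1 : IsCoprime (X - C 1 : F[X]) f := by
      rw [(irreducible_X_sub_C (1 : F)).coprime_iff_not_dvd, dvd_iff_isRoot]
      exact hf1
    rwa [C_1] at h1
  obtain ⟨r, s, hrs⟩ := hcop
  obtain ⟨e, he⟩ := finrank_le_one_iff.1 hE
  -- decomposition
  have hdec : ∀ a, ∃ t : F, ∃ a₀, φ a₀ = 0 ∧ a = a₀ + t • (e : Fin n → F) := by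
    intro a
    have h1 : aeval (toLin' A) (s * f) a ∈ Module.End.eigenspace (toLin' A) 1 := by
      rw [Module.End.mem_eigenspace_iff, one_smul]
      have h2 : aeval (toLin' A) (X - 1 : F[X]) (aeval (toLin' A) (s * f) a) = 0 := by
        rw [← Module.End.mul_apply, ← map_mul]
        have h3 : (X - 1) * (s * f) = s * ((X - 1) * f) := by ring
        rw [h3, map_mul, hA', mul_zero, LinearMap.zero_apply]
      rw [map_sub, aeval_X, map_one, LinearMap.sub_apply, Module.End.one_apply, sub_eq_zero] at h2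
      exact h2
    obtain ⟨t, ht⟩ := he ⟨_, h1⟩
    refine ⟨t, aeval (toLin' A) (r * (X - 1)) a, hker _ ?_, ?_⟩
    · rw [← Module.End.mul_apply, ← map_mul]
      have h3 : f * (r * (X - 1)) = r * ((X - 1) * f) := by ring
      rw [h3, map_mul, hA', mul_zero, LinearMap.zero_apply]
    · have h4 : t • (e : Fin n → F) = aeval (toLin' A) (s * f) a := congrArg Subtype.val ht
      rw [h4, ← LinearMap.add_apply, ← map_add, hrs, map_one, Module.End.one_apply]
  have he0 : φ e = 0 := by
    rw [← dotProduct_eq_zero_iff]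
    intro b
    obtain ⟨t, b₀, hb₀, rfl⟩ := hdec b
    rw [dotProduct_comm, hanti, map_add, hb₀, zero_add, map_smul, dotProduct_smul, h0, smul_zero, neg_zero]
  apply LinearMap.ext
  intro a
  obtain ⟨t, a₀, ha₀, rfl⟩ := hdec a
  rw [map_add, ha₀, map_smul, he0, smul_zero, add_zero, LinearMap.zero_apply]

theorem finrank_eig_le {A : Matrix (Fin n) (Fin n) F} {f : F[X]} (hA : A.charpoly = (X - 1) * f)
    (hf1 : f.eval 1 ≠ 0) : Module.finrank F (Module.End.eigenspace (toLin' A) 1) ≤ 1 := by
  refine (LinearMap.finrank_eigenspace_le _ _).trans ?_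
  have hf0 : f ≠ 0 := by rintro rfl; rw [eval_zero] at hf1; exact hf1 rfl
  have h0 : (X - C 1 : F[X]) * f ≠ 0 := mul_ne_zero (X_sub_C_ne_zero 1) hf0
  rw [Matrix.charpoly_toLin', hA, ← C_1, rootMultiplicity_mul h0, rootMultiplicity_X_sub_C_self,
    rootMultiplicity_eq_zero (by exact hf1)]

/-- **`1` is a simple eigenvalue of `X`.** -/
theorem cop_of_fix {A : GL (Fin n) F} {h : V ≃ₗ[F] V} {f : F[X]}
    (hA : (A : Matrix (Fin n) (Fin n) F).charpoly = (X - 1) * f)
    (hf1 : f.eval 1 ≠ 0) (hf : IsCoprime f f.reverse) (h1 : Un (h : Module.End F V) ((X - 1) * f))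
    (h2 : Un (h : Module.End F V) ((X - 1) * f).reverse) : Cop A h := by
  have hrev : ((X - 1) * f : F[X]).reverse = (1 - X) * f.reverse := by
    rw [reverse_mul_of_domain]
    congr 1
    rw [reverse, ← C_1, natDegree_X_sub_C, reflect_sub, reflect_one_X, reflect_C, C_1, one_mul, pow_one]
  have hP : aeval (A : Matrix (Fin n) (Fin n) F) ((X - 1) * f) = 0 := by
    rw [← hA]; exact aeval_self_charpoly _
  have hP' : aeval (ti A : Matrix (Fin n) (Fin n) F) ((1 - X) * f.reverse) = 0 := by
    rw [← hrev, ← hA]; exact aeval_ti_reverse A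
  have hP'' : aeval (ti A : Matrix (Fin n) (Fin n) F) ((X - 1) * f.reverse) = 0 := by
    have : ((X - 1) * f.reverse : F[X]) = - ((1 - X) * f.reverse) := by ring
    rw [this, map_neg, hP', neg_zero]
  have hcf : IsCoprime f (X - 1 : F[X]) := by
    have h3 : IsCoprime (X - C 1 : F[X]) f := by
      rw [(irreducible_X_sub_C (1 : F)).coprime_iff_not_dvd, dvd_iff_isRoot]
      exact hf1
    rw [C_1] at h3
    exact h3.symm
  have hr1 : f.reverse.eval 1 ≠ 0 := by
    letI : Invertible (1 : F) := invertibleOne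
    have h3 := eval₂_reverse_mul_pow (RingHom.id F) (1 : F) f
    rw [invOf_one, one_pow, mul_one] at h3
    change eval₂ (RingHom.id F) 1 f.reverse ≠ 0
    rw [h3]
    exact hf1
  have hcf' : IsCoprime f.reverse (X - 1 : F[X]) := by
    have h3 : IsCoprime (X - C 1 : F[X]) f.reverse := by
      rw [(irreducible_X_sub_C (1 : F)).coprime_iff_not_dvd, dvd_iff_isRoot]
      exact hr1
    rw [C_1] at h3
    exact h3.symm
  have c1 : IsCoprime f ((1 - X) * f.reverse) := by
    refine IsCoprime.mul_right ?_ hf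
    rw [← IsCoprime.neg_right_iff, neg_sub]
    exact hcf
  have c2 : IsCoprime f.reverse ((X - 1) * f) := IsCoprime.mul_right hcf' hf.symm
  have hE' : Module.finrank F (Module.End.eigenspace (toLin' (ti A : Matrix (Fin n) (Fin n) F)) 1) ≤ 1 := by
    have h3 : Module.End.eigenspace (toLin' (ti A : Matrix (Fin n) (Fin n) F)) 1 =
        Module.End.eigenspace (toLin' (A : Matrix (Fin n) (Fin n) F)ᵀ) 1 := by
      have h4 : (A : Matrix (Fin n) (Fin n) F)ᵀ * (ti A : Matrix (Fin n) (Fin n) F) = 1 := (ti A).inv_val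
      have h5 : (ti A : Matrix (Fin n) (Fin n) F) * (A : Matrix (Fin n) (Fin n) F)ᵀ = 1 := (ti A).val_inv
      ext a
      rw [Module.End.mem_eigenspace_iff, Module.End.mem_eigenspace_iff, one_smul, toLin'_apply, toLin'_apply]
      constructor
      · intro h6
        conv_lhs => rw [← h6]
        rw [mulVec_mulVec, h4, one_mulVec]
      · intro h6
        conv_lhs => rw [← h6]
        rw [mulVec_mulVec, h5, one_mulVec]
    rw [h3]
    apply finrank_eig_le (f := f) _ hf1
    rw [charpoly_transpose, hA]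
  refine ⟨fun f' hf' => ?_, fun f' hf' => ?_, fun f' h0 hf' => ?_, fun f' hf' => ?_, fun f' hf' => ?_,
    fun f' h0 hf' => ?_⟩
  · apply LinearMap.ext
    intro a
    apply inj_of_unit h1
    have := intertwine f' (Matrix.toLin' (A : Matrix (Fin n) (Fin n) F)) (h : Module.End F V) hf'
      ((X - 1) * f) a
    rw [← this, aeval_toLin', hP, map_zero, LinearMap.zero_apply, map_zero]
  · apply LinearMap.ext
    intro v
    obtain ⟨w, rfl⟩ := surj_of_unit h2 v
    have := intertwine f' (h : Module.End F V) (Matrix.toLin' (ti A : Matrix (Fin n) (Fin n) F)) hf'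
      ((X - 1) * f).reverse w
    rw [this, aeval_toLin', hrev, hP', map_zero, LinearMap.zero_apply, LinearMap.zero_apply]
  · exact alt_zero hP hf1 (finrank_eig_le hA hf1) hP' c1 f' h0 hf'
  · apply LinearMap.ext
    intro a
    apply inj_of_unit h2
    have := intertwine f' (Matrix.toLin' (ti A : Matrix (Fin n) (Fin n) F)) (h : Module.End F V) hf'
      ((X - 1) * f).reverse a
    rw [← this, aeval_toLin', hrev, hP', map_zero, LinearMap.zero_apply, map_zero]
  · apply LinearMap.ext
    intro v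
    obtain ⟨w, rfl⟩ := surj_of_unit h1 v
    have := intertwine f' (h : Module.End F V) (Matrix.toLin' (A : Matrix (Fin n) (Fin n) F)) hf'
      ((X - 1) * f) w
    rw [this, aeval_toLin', hP, map_zero, LinearMap.zero_apply, LinearMap.zero_apply]
  · exact alt_zero hP'' hr1 hE' hP c2 f' h0 hf'

end Cfsg.Agent.H126.PwO
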