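import Cfsg.Agent.H126.PwO.Plus

/-!
# S2465, orthogonal groups: a general Schur complement (helper126)
-/

set_option autoImplicit false
set_option linter.unusedSectionVars false

namespace Cfsg.Agent.H126.PwO

open QuadraticMap Matrix Polynomial Cfsg.Agent.LieClassical.OrthCore Cfsg.Agent.LieClassical.OrthTrans
  Cfsg.Agent.LieClassical.OrthFinite Cfsg.Agent.H140.OreO

variable {F V : Type*} [Field F] [AddCommGroup V] [Module F V] {m : ℕ} {Q : QuadraticForm F V}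

/-- `g₁` is the Schur complement of `g` -/
def IsSchur {w w' : Fin m → V} (hf : Frame Q w w') (g : V ≃ₗ[F] V)
    (g₁ : perp Q w w' ≃ₗ[F] perp Q w w') : Prop :=
  ∀ v v' c d, autE hf.toModel g (c, v, 0) = (0, v', d) → g₁ v = v'

theorem isSchur_one {w w' : Fin m → V} (hf : Frame Q w w') {g : V ≃ₗ[F] V} (hS : SchurOne Q g w w')
    {g₁ : perp Q w w' ≃ₗ[F] perp Q w w'} (h : IsSchur hf g g₁) : g₁ = 1 := by
  apply LinearEquiv.ext
  intro v
  obtain ⟨c, d, hcd⟩ := schur_model hf hS v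
  exact h v v c d hcd

/-- **A product from a frame.** -/
theorem prO_gen [Finite F] [FiniteDimensional F V] {N : ℕ} (hN : 5 ≤ Module.finrank F V)
    {w w' : Fin m → V} (hQ : Nondeg Q)
    (hf : Frame Q w w') {g : V ≃ₗ[F] V} (hg : g ∈ O Q) {X Y : GL (Fin m) F}
    (hXY : corner Q g w w' = ((X * Y : GL (Fin m) F) : Matrix (Fin m) (Fin m) F))
    (hX : (X : Matrix (Fin m) (Fin m) F).det = 1) (hY : (Y : Matrix (Fin m) (Fin m) F).det = 1)
    {s t k : ℕ} (hs : s.Coprime N) (ht : t.Coprime N) (hXs : X ^ s = 1) (hYt : Y ^ t = 1) (hk : Odd k)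
    (hkN : k.Coprime N)
    (h : ∀ g₁ ∈ O (res Q w w'), IsSchur hf g g₁ → ∃ x ∈ O (res Q w w'), ∃ y ∈ O (res Q w w'),
      g₁ = x * y ∧ Cop X x ∧ Cop Y y ∧ x ^ k = 1 ∧ y ^ k = 1) : PrO N Q g := by
  have he : ∀ v, MQ m (res Q w w') (hf.toModel v) = Q v := hf.MQ_toModel
  have hQ1 := hf.nondeg_res hQ
  have hG : Good (MQ m (res Q w w')) := by
    apply good_of_finite (nondeg_MQ hQ1)
    rw [← hf.toModel.finrank_eq]; omega
  refine PrO.of_autE he ?_
  obtain ⟨u₁, hu₁, g₁, hg₁, u₂, hu₂, e⟩ := decomp ((autE_mem_O he).2 hg) (X * Y) (fun a => by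
    rw [corner_model, hXY])
  obtain ⟨x, hx, y, hy, hxy, cX, cY, hxk, hyk⟩ := h g₁ hg₁ (fun v v' c d hcd => schur_one_of hu₁ hu₂ e hcd)
  have hO : ∀ (Z : GL (Fin m) F) (z : perp Q w w' ≃ₗ[F] perp Q w w'), (Z : Matrix (Fin m) (Fin m) F).det = 1 →
      z ∈ O (res Q w w') → z ^ k = 1 → lev Z z ∈ Om (MQ m (res Q w w')) := by
    intro Z z hZ hz hzk
    have h2 : lev Z z = lev Z 1 * lev 1 z := by rw [← lev_mul, mul_one, one_mul]
    rw [h2]
    refine (Om _).mul_mem (lev_det_one_mem hG hZ) (mem_Om_of_pow hG (lev_mem hz) hk ?_)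
    rw [lev_pow, one_pow, hzk, lev_one]
  refine prO_model hu₁ hu₂ e (x := x) (y := y) hxy hx hy cX cY (hO X x hX hx hxk) (hO Y y hY hy hyk)
    (s := s * k) (t := t * k) (Nat.Coprime.mul_left hs hkN) (Nat.Coprime.mul_left ht hkN) ?_ ?_ ?_ ?_
  · rw [pow_mul, hXs, one_pow]
  · rw [mul_comm, pow_mul, hxk, one_pow]
  · rw [pow_mul, hYt, one_pow]
  · rw [mul_comm, pow_mul, hyk, one_pow]

/-- **A frame and two polynomials.** -/
theorem prO_pol2 [Finite F] [FiniteDimensional F V] {N j : ℕ} (hN : 5 ≤ Module.finrank F V)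
    {w w' : Fin (j + 2) → V} (hQ : Nondeg Q)
    (hf : Frame Q w w') {g : V ≃ₗ[F] V} (hg : g ∈ O Q)
    (hdet : (corner Q g w w').det = 1)
    (hA : corner Q g w w' = 1 ∨ ∀ c : F, corner Q g w w' ≠ c • (1 : Matrix (Fin (j + 2)) (Fin (j + 2)) F))
    {p f : F[X]} {c : F} (hp : p.Monic) (hpd : p.natDegree = j + 2) (hp0 : (-1) ^ (j + 2) * p.coeff 0 = 1)
    (hfm : f.Monic) (hfd : f.natDegree = j + 1) (hf0 : (-1) ^ (j + 1) * f.coeff 0 * c = 1)
    {s t k : ℕ} (hs : s.Coprime N) (ht : t.Coprime N)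
    (hps : p ∣ Polynomial.X ^ s - 1) (hft : (Polynomial.X - C c) * f ∣ Polynomial.X ^ t - 1) (hk : Odd k)
    (hkN : k.Coprime N)
    (h : ∀ g₁ ∈ O (res Q w w'), IsSchur hf g g₁ → ∃ x ∈ O (res Q w w'), ∃ y ∈ O (res Q w w'),
      g₁ = x * y ∧ CopP (j + 2) p x ∧ CopP (j + 2) ((Polynomial.X - C c) * f) y ∧ CopP (j + 2) p y⁻¹ ∧
        x ^ k = 1 ∧ y ^ k = 1) : PrO N Q g := by
  obtain ⟨X, Y, hXY, hX, hY⟩ := split hdet hA hp hpd hp0 hfm hfd hf0
  have hXd : (X : Matrix (Fin (j + 2)) (Fin (j + 2)) F).det = 1 := det_of_charpoly hX hp0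
  have hXs : X ^ s = 1 := pow_of_charpoly hX hps
  rcases hY with hY | rfl
  · have hYd : (Y : Matrix (Fin (j + 2)) (Fin (j + 2)) F).det = 1 := by
      refine det_of_charpoly hY ?_
      rw [mul_coeff_zero, coeff_sub, coeff_X_zero, coeff_C_zero, zero_sub]
      linear_combination hf0
    refine prO_gen hN hQ hf hg hXY hXd hYd hs ht hXs (pow_of_charpoly hY hft) hk hkN fun g₁ hg₁ hsch => ?_
    obtain ⟨x, hx, y, hy, hxy, h1, h2, -, h4, h5⟩ := h g₁ hg₁ hsch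
    exact ⟨x, hx, y, hy, hxy, h1 X hX, h2 Y hY, h4, h5⟩
  · have hYd : ((X⁻¹ : GL (Fin (j + 2)) F) : Matrix (Fin (j + 2)) (Fin (j + 2)) F).det = 1 := by
      have h3 : ((X * X⁻¹ : GL (Fin (j + 2)) F) : Matrix (Fin (j + 2)) (Fin (j + 2)) F).det = 1 := by
        rw [mul_inv_cancel, Units.val_one, det_one]
      rwa [Units.val_mul, det_mul, hXd, one_mul] at h3
    refine prO_gen hN hQ hf hg hXY hXd hYd hs hs hXs (by rw [inv_pow, hXs, inv_one]) hk hkN
      fun g₁ hg₁ hsch => ?_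
    obtain ⟨x, hx, y, hy, hxy, h1, -, h3, h4, h5⟩ := h g₁ hg₁ hsch
    have h6 := Cop.inv (h3 X hX)
    rw [inv_inv] at h6
    exact ⟨x, hx, y, hy, hxy, h1 X hX, h6, h4, h5⟩

/-- **A frame and two matrices.** -/
theorem prO_mat2 [Finite F] [FiniteDimensional F V] {N : ℕ} (hN : 5 ≤ Module.finrank F V)
    {w w' : Fin m → V} (hQ : Nondeg Q)
    (hf : Frame Q w w') {g : V ≃ₗ[F] V} (hg : g ∈ O Q)
    {X Y : Matrix (Fin m) (Fin m) F} (hXY : corner Q g w w' = X * Y) (hX : X.det = 1) (hY : Y.det = 1)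
    {s t k : ℕ} (hs : s.Coprime N) (ht : t.Coprime N) (hXs : X ^ s = 1) (hYt : Y ^ t = 1) (hk : Odd k)
    (hkN : k.Coprime N)
    (h : ∀ g₁ ∈ O (res Q w w'), IsSchur hf g g₁ → ∃ x ∈ O (res Q w w'), ∃ y ∈ O (res Q w w'),
      g₁ = x * y ∧ CopP m X.charpoly x ∧ CopP m Y.charpoly y ∧ x ^ k = 1 ∧ y ^ k = 1) : PrO N Q g := by
  obtain ⟨X', hX'⟩ : ∃ X' : GL (Fin m) F, (X' : Matrix _ _ F) = X :=
    ⟨Matrix.GeneralLinearGroup.mkOfDetNeZero X (by rw [hX]; exact one_ne_zero), rfl⟩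
  obtain ⟨Y', hY'⟩ : ∃ Y' : GL (Fin m) F, (Y' : Matrix _ _ F) = Y :=
    ⟨Matrix.GeneralLinearGroup.mkOfDetNeZero Y (by rw [hY]; exact one_ne_zero), rfl⟩
  refine prO_gen hN hQ hf hg (X := X') (Y := Y') ?_ (by rw [hX', hX]) (by rw [hY', hY]) hs ht ?_ ?_ hk hkN ?_
  · rw [Units.val_mul, hX', hY', hXY]
  · apply Units.ext
    rw [Units.val_pow_eq_pow_val, Units.val_one, hX', hXs]
  · apply Units.ext
    rw [Units.val_pow_eq_pow_val, Units.val_one, hY', hYt]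
  · intro g₁ hg₁ hsch
    obtain ⟨x, hx, y, hy, hxy, h1, h2, h4, h5⟩ := h g₁ hg₁ hsch
    exact ⟨x, hx, y, hy, hxy, h1 X' (by rw [hX']), h2 Y' (by rw [hY']), h4, h5⟩

/-! ### Tools for `Un` -/

theorem un_subsingleton [Subsingleton V] (φ : Module.End F V) (c : F[X]) : Un φ c := by
  have : aeval φ c = 1 := LinearMap.ext fun v => Subsingleton.elim _ _
  rw [Un, this]
  exact isUnit_one

/-- the fifth cyclotomic polynomial kills `x` -/
def Fv (x : V ≃ₗ[F] V) : Prop := ∀ v, x (x (x (x v))) + x (x (x v)) + x (x v) + x v + v = 0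

theorem Fv.pow {x : V ≃ₗ[F] V} (h : Fv x) : x ^ 5 = 1 := by
  apply LinearEquiv.ext
  intro v
  have h1 := h v
  have h2 := h (x v)
  have h3 : (x ^ 5) v = x (x (x (x (x v)))) := rfl
  rw [h3]
  have h4 : x (x (x (x (x v)))) + (x (x (x (x v))) + x (x (x v)) + x (x v) + x v) =
      v + (x (x (x (x v))) + x (x (x v)) + x (x v) + x v) := by
    have e1 : x (x (x (x (x v)))) + (x (x (x (x v))) + x (x (x v)) + x (x v) + x v) = 0 := by
      rw [← h2]; abel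
    have e2 : v + (x (x (x (x v))) + x (x (x v)) + x (x v) + x v) = 0 := by
      rw [← h1]; abel
    rw [e1, e2]
  exact add_right_cancel h4

theorem Fv.inv {x : V ≃ₗ[F] V} (h : Fv x) : Fv x⁻¹ := by
  intro v
  obtain ⟨w, rfl⟩ : ∃ w, v = x (x (x (x w))) := ⟨x⁻¹ (x⁻¹ (x⁻¹ (x⁻¹ v))), by
    have e : ∀ u, x (x⁻¹ u) = u := fun u => LinearEquiv.apply_symm_apply x u
    rw [e, e, e, e]⟩
  have e : ∀ u, x⁻¹ (x u) = u := fun u => LinearEquiv.symm_apply_apply x u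
  rw [e, e, e, e, ← h w]
  abel

theorem Fv.un {x : V ≃ₗ[F] V} (h : Fv x) {P : F[X]} (hP : IsCoprime P (X ^ 5 - 1 : F[X])) :
    Un (x : Module.End F V) P := by
  refine un_of_coprime (P := X ^ 5 - 1) ?_ hP
  have h1 := h.pow
  rw [map_sub, map_pow, aeval_X, map_one, sub_eq_zero]
  apply LinearMap.ext
  intro v
  have h2 := LinearEquiv.congr_fun h1 v
  exact h2

theorem Fv.un_one {x : V ≃ₗ[F] V} (h : Fv x) (h5 : (5 : F) ≠ 0) : Un (x : Module.End F V) (X - 1) := by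
  refine un_of_coprime (P := X ^ 4 + X ^ 3 + X ^ 2 + X + 1) ?_ ?_
  · apply LinearMap.ext
    intro v
    simp only [map_add, map_pow, aeval_X, map_one, LinearMap.add_apply, LinearMap.zero_apply, Module.End.one_apply]
    exact h v
  · have h4 : IsCoprime (X - C 1 : F[X]) (X ^ 4 + X ^ 3 + X ^ 2 + X + 1) := by
      rw [(irreducible_X_sub_C (1 : F)).coprime_iff_not_dvd, dvd_iff_isRoot, IsRoot.def]
      simp only [eval_add, eval_pow, eval_X, eval_one, one_pow]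
      intro h6
      apply h5
      linear_combination h6
    rwa [C_1] at h4

theorem un_mul {φ : Module.End F V} {a b : F[X]} (ha : Un φ a) (hb : Un φ b) : Un φ (a * b) := by
  rw [Un, map_mul]
  exact ha.mul hb

theorem coprime_reverse_five {f : F[X]} (hf : Irreducible f) (hd : 2 ≤ f.natDegree) (h : ¬ f ∣ X ^ 5 - 1) :
    IsCoprime f (X ^ 5 - 1 : F[X]) ∧ IsCoprime f.reverse (X ^ 5 - 1 : F[X]) := by
  refine ⟨hf.coprime_iff_not_dvd.2 h, ?_⟩
  have h0 : f.coeff 0 ≠ 0 := coeff_zero_ne hf hd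
  rw [(irreducible_rev hf h0).coprime_iff_not_dvd]
  rintro ⟨g, hg⟩
  apply h
  have h1 := congrArg reverse hg
  rw [reverse_mul_of_domain] at h1
  have h2 : (X ^ 5 - 1 : F[X]).reverse = 1 - X ^ 5 := by
    have hd5 : (X ^ 5 - 1 : F[X]).natDegree = 5 := by
      rw [← C_1]; exact natDegree_X_pow_sub_C
    have h3 : reflect 5 (X ^ 5 : F[X]) = 1 := by
      have := reflect_C_mul_X_pow (R := F) 5 5 (c := 1)
      rw [C_1, one_mul, one_mul] at this
      rw [this, revAt_le le_rfl, Nat.sub_self, pow_zero]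
    have h4 : reflect 5 (1 : F[X]) = X ^ 5 := by
      rw [← C_1, reflect_C, C_1, one_mul]
    rw [reverse, hd5, reflect_sub, h3, h4]
  rw [h2, rev_rev h0] at h1
  refine ⟨-g.reverse, ?_⟩
  rw [mul_neg, ← h1]
  ring

end Cfsg.Agent.H126.PwO
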