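import Cfsg.Agent.H126.PwO.Gen
import Cfsg.Agent.H126.PwO.FiveThree
import Cfsg.Agent.H126.M3.Main
import Cfsg.Agent.H934.MF.TwoT7
import Cfsg.Agent.H85.Pw.IrrThree
import Cfsg.Agent.H85.Pw.PThree

/-!
# S2465, orthogonal groups: products of two irreducible matrices (helper126)

`IrrM s X` : `X` has irreducible characteristic polynomial, determinant one, and `X ^ s = 1`.
-/

set_option autoImplicit false
set_option linter.unusedSectionVars false

namespace Cfsg.Agent.H126.PwO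

open QuadraticMap Matrix Polynomial Cfsg.Agent.LieClassical.OrthCore Cfsg.Agent.LieClassical.OrthTrans
  Cfsg.Agent.LieClassical.OrthFinite Cfsg.Agent.H140.OreO

variable {F V : Type*} [Field F] [AddCommGroup V] [Module F V] {m : ℕ} {Q : QuadraticForm F V}

/-- odd degree and norm one: not self reciprocal -/
theorem cop_odd {f : F[X]} {d : ℕ} (hm : f.Monic) (hf : Irreducible f) (hd : f.natDegree = d) (hodd : Odd d)
    (h2 : 2 ≤ d) (h : (-1) ^ d * f.coeff 0 = 1) : IsCoprime f f.reverse := by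
  have h0 : f.coeff 0 ≠ 0 := coeff_zero_ne hf (by rw [hd]; exact h2)
  have h01 : f.coeff 0 = -1 := by
    rw [hodd.neg_one_pow] at h
    linear_combination -h
  rw [hf.coprime_iff_not_dvd]
  intro hdv
  have h1 := Polynomial.eq_mul_leadingCoeff_of_monic_of_dvd_of_natDegree_le hm hdv (natDegree_rev h0).le
  have h2' : f.reverse.leadingCoeff = f.coeff 0 := by
    rw [reverse_leadingCoeff, trailingCoeff, natTrailingDegree_eq_zero_of_constantCoeff_ne_zero h0]
  rw [h2', h01] at h1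
  have h3 : ∀ i ≤ d, f.coeff (d - i) = - f.coeff i := by
    intro i hi
    have h4 := congrArg (fun p => coeff p i) h1
    simp only [coeff_reverse, hd, revAt_le hi] at h4
    rw [h4]
    simp
  have h5 : f.eval 1 = 0 := by
    rw [eval_eq_sum_range]
    simp only [one_pow, mul_one, hd]
    refine Finset.sum_involution (fun i _ => d - i) ?_ ?_ ?_ ?_
    · intro i hi
      rw [Finset.mem_range] at hi
      rw [h3 i (by omega), add_neg_cancel]
    · intro i hi _ h6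
      rw [Finset.mem_range] at hi
      obtain ⟨k, hk⟩ := hodd
      omega
    · intro i hi
      rw [Finset.mem_range] at hi ⊢
      omega
    · intro i hi
      rw [Finset.mem_range] at hi
      omega
  exact eval_ne_zero hf (by rw [hd]; exact h2) 1 h5

/-- norm one -/
theorem irr_dvd [Finite F] {f : F[X]} {d : ℕ} (hm : f.Monic) (hf : Irreducible f) (hd : f.natDegree = d)
    (h : (-1) ^ d * f.coeff 0 = 1) : f ∣ X ^ ((Nat.card F ^ d - 1) / (Nat.card F - 1)) - 1 := by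
  have : Fact (Irreducible f) := ⟨hf⟩
  have hfin : Module.Finite F (AdjoinRoot f) := (AdjoinRoot.powerBasis hf.ne_zero).finite
  have hK : Module.finrank F (AdjoinRoot f) = d := by
    rw [(AdjoinRoot.powerBasis hf.ne_zero).finrank, AdjoinRoot.powerBasis_dim, hd]
  have : Finite (AdjoinRoot f) := Module.finite_of_finite F
  have hcard : Nat.card (AdjoinRoot f) = Nat.card F ^ d := by
    rw [← hK]; exact Module.natCard_eq_pow_finrank
  have h1 := Algebra.PowerBasis.norm_gen_eq_coeff_zero_minpoly (AdjoinRoot.powerBasis hf.ne_zero)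
  rw [AdjoinRoot.powerBasis_gen, AdjoinRoot.powerBasis_dim, AdjoinRoot.minpoly_root hf.ne_zero, hm.leadingCoeff,
    inv_one, C_1, mul_one, hd, h] at h1
  have h2 := FiniteField.algebraMap_norm_eq_pow (K := F) (K' := AdjoinRoot f) (x := AdjoinRoot.root f)
  rw [h1, map_one, hcard] at h2
  rw [← AdjoinRoot.mk_eq_zero, map_sub, map_pow, map_one, AdjoinRoot.mk_X, ← h2, sub_self]

theorem not_dvd_five {f : F[X]} (hf : Irreducible f) (hd : 2 ≤ f.natDegree) {s : ℕ} (hs : s.Coprime 5)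
    (h : f ∣ X ^ s - 1) : ¬ f ∣ X ^ 5 - 1 := by
  intro h5
  have : Fact (Irreducible f) := ⟨hf⟩
  rw [← AdjoinRoot.mk_eq_zero, map_sub, map_pow, map_one, AdjoinRoot.mk_X, sub_eq_zero] at h h5
  have h1 : orderOf (AdjoinRoot.root f) ∣ 1 := by
    rw [← hs]
    exact Nat.dvd_gcd (orderOf_dvd_of_pow_eq_one h) (orderOf_dvd_of_pow_eq_one h5)
  have h2 : AdjoinRoot.root f = 1 := by
    rw [← orderOf_eq_one_iff]
    exact Nat.dvd_one.1 h1
  rw [← AdjoinRoot.mk_X, ← sub_eq_zero, ← map_one (AdjoinRoot.mk f), ← map_sub, AdjoinRoot.mk_eq_zero] at h2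
  have h3 := Polynomial.natDegree_le_of_dvd h2 (by rw [← C_1]; exact X_sub_C_ne_zero 1)
  rw [← C_1, natDegree_X_sub_C] at h3
  omega

/-- irreducible characteristic polynomial, determinant one, order dividing `s` -/
structure IrrM (s : ℕ) (X : Matrix (Fin m) (Fin m) F) : Prop where
  irr : Irreducible X.charpoly
  det : X.det = 1
  pow : X ^ s = 1

theorem IrrM.norm {s : ℕ} {X : Matrix (Fin m) (Fin m) F} (h : IrrM s X) : (-1) ^ m * X.charpoly.coeff 0 = 1 := by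
  have h1 := h.det
  rwa [det_eq_sign_charpoly_coeff, Fintype.card_fin] at h1

theorem deg_charpoly (X : Matrix (Fin m) (Fin m) F) : X.charpoly.natDegree = m := by
  rw [charpoly_natDegree_eq_dim, Fintype.card_fin]

theorem IrrM.cop {s : ℕ} {X : Matrix (Fin m) (Fin m) F} (h : IrrM s X) (hodd : Odd m) (h2 : 2 ≤ m) :
    IsCoprime X.charpoly X.charpoly.reverse :=
  cop_odd X.charpoly_monic h.irr (deg_charpoly X) hodd h2 h.norm

theorem IrrM.dvd {s : ℕ} {X : Matrix (Fin m) (Fin m) F} (h : IrrM s X) : X.charpoly ∣ Polynomial.X ^ s - 1 := by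
  have h1 : aeval X (Polynomial.X ^ s - 1 : F[X]) = 0 := by
    rw [map_sub, map_pow, aeval_X, h.pow, map_one, sub_self]
  have h2 := minpoly.dvd F X h1
  have h0 : 0 < m := by
    have := h.irr.natDegree_pos
    rwa [deg_charpoly] at this
  have : Nonempty (Fin m) := ⟨⟨0, h0⟩⟩
  have h3 : minpoly F X = X.charpoly := by
    apply Polynomial.eq_of_monic_of_associated (minpoly.monic (Matrix.isIntegral X)) X.charpoly_monic
    refine (h.irr.dvd_iff.1 (Matrix.minpoly_dvd_charpoly X)).resolve_left ?_ |>.symm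
    exact minpoly.not_isUnit F X
  rwa [h3] at h2

theorem irrM_of [Finite F] {X : Matrix (Fin m) (Fin m) F} (hirr : Irreducible X.charpoly) (hdet : X.det = 1) {s : ℕ}
    (hs : (Nat.card F ^ m - 1) / (Nat.card F - 1) = s) : IrrM s X := by
  refine ⟨hirr, hdet, H962.PP.pow_eq_one_of_charpoly ?_⟩
  rw [← hs]
  refine irr_dvd X.charpoly_monic hirr (deg_charpoly X) ?_
  have h1 := det_eq_sign_charpoly_coeff X
  rw [hdet, Fintype.card_fin] at h1
  exact h1.symm

theorem rev_eval_one {f : F[X]} (h : f.eval 1 ≠ 0) : f.reverse.eval 1 ≠ 0 := by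
  have : Invertible (1 : F) := invertibleOne
  have h3 := eval₂_reverse_mul_pow (RingHom.id F) (1 : F) f
  rw [invOf_one, one_pow, mul_one] at h3
  change eval₂ (RingHom.id F) 1 f.reverse ≠ 0
  rw [h3]
  exact h

theorem IrrM.copP_one {s : ℕ} {X : Matrix (Fin m) (Fin m) F} (h : IrrM s X) (hodd : Odd m) (h2 : 2 ≤ m) :
    CopP m X.charpoly (1 : V ≃ₗ[F] V) := by
  have h1 : X.charpoly.eval 1 ≠ 0 := eval_ne_zero h.irr (by rw [deg_charpoly]; exact h2) 1
  exact copP_of_cop (un_one h1) (un_one (rev_eval_one h1)) (h.cop hodd h2)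

theorem IrrM.copP_fv {s : ℕ} {X : Matrix (Fin m) (Fin m) F} (h : IrrM s X) (hodd : Odd m) (h2 : 2 ≤ m)
    (hs : s.Coprime 5) {x : V ≃ₗ[F] V} (hx : Fv x) : CopP m X.charpoly x := by
  obtain ⟨h3, h4⟩ := coprime_reverse_five h.irr (by rw [deg_charpoly]; exact h2)
    (not_dvd_five h.irr (by rw [deg_charpoly]; exact h2) hs h.dvd)
  exact copP_of_cop (hx.un h3) (hx.un h4) (h.cop hodd h2)

/-- `X` of determinant one, of order prime to `N`, and no common eigenvalue with the elements of `P` -/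
structure CG (N : ℕ) (P : (V ≃ₗ[F] V) → Prop) (X : GL (Fin m) F) : Prop where
  det : (X : Matrix (Fin m) (Fin m) F).det = 1
  pow : ∃ s : ℕ, s.Coprime N ∧ X ^ s = 1
  cop : ∀ x, P x → Cop X x

theorem CG.inv {N : ℕ} {P : (V ≃ₗ[F] V) → Prop} {X : GL (Fin m) F} (h : CG N P X) (hP : ∀ x, P x → P x⁻¹) :
    CG N P X⁻¹ := by
  refine ⟨?_, ?_, fun x hx => ?_⟩
  · have h3 : ((X * X⁻¹ : GL (Fin m) F) : Matrix (Fin m) (Fin m) F).det = 1 := by
      rw [mul_inv_cancel, Units.val_one, det_one]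
    rwa [Units.val_mul, det_mul, h.det, one_mul] at h3
  · obtain ⟨s, hs, hX⟩ := h.pow
    exact ⟨s, hs, by rw [inv_pow, hX, inv_one]⟩
  · have h6 := Cop.inv (h.cop _ (hP x hx))
    rwa [inv_inv] at h6

/-- `A` is a product of two good matrices -/
def Fac (N : ℕ) (P : (V ≃ₗ[F] V) → Prop) (A : Matrix (Fin m) (Fin m) F) : Prop :=
  ∃ X Y : GL (Fin m) F, A = ((X * Y : GL (Fin m) F) : Matrix (Fin m) (Fin m) F) ∧ CG N P X ∧ CG N P Y

/-- **Products from factorizations** -/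
theorem prO_fac [Finite F] [FiniteDimensional F V] {N : ℕ} (hN : 5 ≤ Module.finrank F V)
    {w w' : Fin m → V} (hQ : Nondeg Q)
    (hf : Frame Q w w') {g : V ≃ₗ[F] V} (hg : g ∈ O Q) {P : (perp Q w w' ≃ₗ[F] perp Q w w') → Prop}
    (hfac : Fac N P (corner Q g w w')) {k : ℕ} (hk : Odd k) (hkN : k.Coprime N) (hP : ∀ x, P x → x ^ k = 1)
    (h : ∀ g₁ ∈ O (res Q w w'), IsSchur hf g g₁ → ∃ x ∈ O (res Q w w'), ∃ y ∈ O (res Q w w'),
      g₁ = x * y ∧ P x ∧ P y) : PrO N Q g := by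
  obtain ⟨X, Y, hXY, hX, hY⟩ := hfac
  obtain ⟨s, hs, hXs⟩ := hX.pow
  obtain ⟨t, ht, hYt⟩ := hY.pow
  refine prO_gen hN hQ hf hg hXY hX.det hY.det hs ht hXs hYt hk hkN ?_
  intro g₁ hg₁ hsch
  obtain ⟨x, hx, y, hy, hxy, h5, h6⟩ := h g₁ hg₁ hsch
  exact ⟨x, hx, y, hy, hxy, hX.cop x h5, hY.cop y h6, hP x h5, hP y h6⟩

/-- **Schur complement one** -/
theorem prO_fac_one [Finite F] [FiniteDimensional F V] {N : ℕ} (hN : 5 ≤ Module.finrank F V)
    {w w' : Fin m → V} (hQ : Nondeg Q)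
    (hf : Frame Q w w') {g : V ≃ₗ[F] V} (hg : g ∈ O Q) (hS : SchurOne Q g w w')
    (hfac : Fac N (fun x : perp Q w w' ≃ₗ[F] perp Q w w' => x = 1) (corner Q g w w')) : PrO N Q g := by
  refine prO_fac hN hQ hf hg hfac (k := 1) odd_one (Nat.coprime_one_left N) (fun x hx => by rw [hx, one_pow]) ?_
  intro g₁ hg₁ hsch
  refine ⟨1, (O _).one_mem, 1, (O _).one_mem, ?_, rfl, rfl⟩
  rw [isSchur_one hf hS hsch, mul_one]

theorem exists_gl {X : Matrix (Fin m) (Fin m) F} (h : X.det = 1) :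
    ∃ X' : GL (Fin m) F, (X' : Matrix (Fin m) (Fin m) F) = X :=
  ⟨Matrix.GeneralLinearGroup.mkOfDetNeZero X (by rw [h]; exact one_ne_zero), rfl⟩

theorem gl_pow {X : GL (Fin m) F} {s : ℕ} (h : (X : Matrix (Fin m) (Fin m) F) ^ s = 1) : X ^ s = 1 := by
  apply Units.ext
  rw [Units.val_pow_eq_pow_val, Units.val_one, h]

theorem IrrM.cg_one {s N : ℕ} {X : GL (Fin m) F} (h : IrrM s (X : Matrix (Fin m) (Fin m) F)) (hodd : Odd m)
    (h2 : 2 ≤ m) (hs : s.Coprime N) : CG N (fun x : V ≃ₗ[F] V => x = 1) X :=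
  ⟨h.det, ⟨s, hs, gl_pow h.pow⟩, fun x hx => by rw [hx]; exact h.copP_one hodd h2 X rfl⟩

theorem IrrM.cg_fv {s N : ℕ} {X : GL (Fin m) F} (h : IrrM s (X : Matrix (Fin m) (Fin m) F)) (hodd : Odd m)
    (h2 : 2 ≤ m) (hs : s.Coprime N) (h5 : s.Coprime 5) : CG N (Fv : (V ≃ₗ[F] V) → Prop) X :=
  ⟨h.det, ⟨s, hs, gl_pow h.pow⟩, fun _ hx => h.copP_fv hodd h2 h5 hx X rfl⟩

/-- irreducible of norm one -/
theorem One.irrM {s : ℕ} {f : F[X]} (h : One m s f) {X : Matrix (Fin m) (Fin m) F} (hX : X.charpoly = f) :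
    IrrM s X := by
  refine ⟨by rw [hX]; exact h.irr, ?_, H962.PP.pow_eq_one_of_charpoly (by rw [hX]; exact h.dvd)⟩
  exact det_of_charpoly hX h.norm

theorem un_fix {f : F[X]} {x : V ≃ₗ[F] V} (hx : Fv x) (h5 : (5 : F) ≠ 0) (h1 : IsCoprime f (X ^ 5 - 1 : F[X]))
    (h2 : IsCoprime f.reverse (X ^ 5 - 1 : F[X])) : Un (x : Module.End F V) ((X - 1) * f) ∧
      Un (x : Module.End F V) ((X - 1) * f).reverse := by
  refine ⟨un_mul (hx.un_one h5) (hx.un h1), ?_⟩
  rw [reverse_mul_of_domain, ← C_1, reverse_lin, C_1, one_mul]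
  refine un_mul ?_ (hx.un h2)
  have h3 := hx.un_one h5
  have h4 : (1 - X : F[X]) = - (X - 1) := by ring
  rw [h4, Un, map_neg]
  exact IsUnit.neg h3

/-- `(T - 1) f` -/
theorem One.cg_fv {d s : ℕ} {f : F[X]} (h : One d s f) (hd : 2 ≤ d) (hs : s.Coprime 6) (h5 : (5 : F) ≠ 0)
    {X : GL (Fin (d + 1)) F}
    (hX : (X : Matrix (Fin (d + 1)) (Fin (d + 1)) F).charpoly = (Polynomial.X - C 1) * f) :
    CG 6 (Fv : (V ≃ₗ[F] V) → Prop) X := by
  refine ⟨?_, ⟨s, hs, pow_of_charpoly hX (h.dvd' hd)⟩, fun x hx => ?_⟩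
  · refine det_of_charpoly hX ?_
    have := h.norm
    rw [mul_coeff_zero, coeff_sub, coeff_X_zero, coeff_C_zero, zero_sub, pow_succ]
    linear_combination this
  · rw [C_1] at hX
    obtain ⟨h3, h4⟩ := coprime_reverse_five h.irr (by rw [h.deg]; exact hd) h.five
    obtain ⟨h6, h7⟩ := un_fix hx h5 h3 h4
    exact copP_of_fix (h.eval hd 1) h.cop h6 h7 X hX

/-- even degree: `(T - 1) f` twice -/
theorem fac_even [Finite F] {d : ℕ} (hd : 3 ≤ d) (hodd : Odd d) (h5 : (5 : F) ≠ 0)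
    {A : Matrix (Fin (d + 1)) (Fin (d + 1)) F} (hdet : A.det = 1)
    (hA : A = 1 ∨ ∀ c : F, A ≠ c • (1 : Matrix (Fin (d + 1)) (Fin (d + 1)) F)) :
    Fac 6 (Fv : (V ≃ₗ[F] V) → Prop) A := by
  obtain ⟨f, s, h, hs⟩ := exists_one F hd hodd
  obtain ⟨k, rfl⟩ : ∃ k, d = k + 1 := ⟨d - 1, by omega⟩
  have hm := (monic_X_sub_C (1 : F)).mul h.monic
  have hn : ((Polynomial.X - C 1) * f : F[X]).natDegree = k + 2 := by
    rw [(monic_X_sub_C (1 : F)).natDegree_mul h.monic, natDegree_X_sub_C, h.deg]; omega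
  have h0 : (-1 : F) ^ (k + 2) * ((Polynomial.X - C 1) * f : F[X]).coeff 0 = 1 := by
    have := h.norm
    rw [mul_coeff_zero, coeff_sub, coeff_X_zero, coeff_C_zero, zero_sub, pow_succ]
    linear_combination this
  obtain ⟨X, Y, hXY, hX, hY⟩ := split hdet hA hm hn h0 h.monic h.deg (c := 1) (by rw [mul_one]; exact h.norm)
  have hX' : CG 6 (Fv : (V ≃ₗ[F] V) → Prop) X := h.cg_fv (by omega) hs h5 hX
  refine ⟨X, Y, hXY, hX', ?_⟩
  rcases hY with hY | rfl
  · exact h.cg_fv (by omega) hs h5 hY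
  · exact hX'.inv fun x hx => hx.inv

/-- odd degree: `f` and `(T - 1) f'` -/
theorem fac_odd [Finite F] {d : ℕ} (hd : 4 ≤ d) (heven : Even d) (h5 : (5 : F) ≠ 0)
    {A : Matrix (Fin (d + 1)) (Fin (d + 1)) F} (hdet : A.det = 1)
    (hA : A = 1 ∨ ∀ c : F, A ≠ c • (1 : Matrix (Fin (d + 1)) (Fin (d + 1)) F))
    (hf : ∃ (f : F[X]) (s : ℕ), One d s f ∧ s.Coprime 6) : Fac 6 (Fv : (V ≃ₗ[F] V) → Prop) A := by
  obtain ⟨f, s, h, hs⟩ := hf
  obtain ⟨p, t, hp, ht⟩ := exists_one F (d := d + 1) (by omega) heven.add_one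
  obtain ⟨k, rfl⟩ : ∃ k, d = k + 1 := ⟨d - 1, by omega⟩
  obtain ⟨X, Y, hXY, hX, hY⟩ := split hdet hA hp.monic hp.deg hp.norm h.monic h.deg (c := 1)
    (by rw [mul_one]; exact h.norm)
  have hX' : CG 6 (Fv : (V ≃ₗ[F] V) → Prop) X := by
    refine ⟨det_of_charpoly hX hp.norm, ⟨t, ht, pow_of_charpoly hX hp.dvd⟩, fun x hx => ?_⟩
    obtain ⟨h3, h4⟩ := coprime_reverse_five hp.irr (by rw [hp.deg]; omega) hp.five
    exact copP_of_cop (hx.un h3) (hx.un h4) hp.cop X hX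
  refine ⟨X, Y, hXY, hX', ?_⟩
  rcases hY with hY | rfl
  · exact h.cg_fv (by omega) hs h5 hY
  · exact hX'.inv fun x hx => hx.inv

end Cfsg.Agent.H126.PwO
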