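import Cfsg.Agent.H126.PwO.Mat
import Cfsg.Agent.H934.MF.TwoS

/-!
# S2465, orthogonal groups: small fields (helper126)

* `fac_small` : the degrees and fields where the product decomposition uses irreducible matrices.
* `fac_fv` : every field with `2, 3, 4, 9` elements.
-/

set_option autoImplicit false
set_option linter.unusedSectionVars false

namespace Cfsg.Agent.H126.PwO

open QuadraticMap Matrix Polynomial Cfsg.Agent.LieClassical.OrthCore Cfsg.Agent.LieClassical.OrthTrans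
  Cfsg.Agent.LieClassical.OrthFinite Cfsg.Agent.H140.OreO

variable {F V : Type*} [Field F] [AddCommGroup V] [Module F V] {m : ℕ} {Q : QuadraticForm F V}

/-- `A` is a product of two irreducible matrices of determinant one -/
def Irr2 (A : Matrix (Fin m) (Fin m) F) : Prop :=
  ∃ (X Y : Matrix (Fin m) (Fin m) F) (s t : ℕ), A = X * Y ∧ IrrM s X ∧ IrrM t Y ∧ s.Coprime 30 ∧ t.Coprime 30

theorem det_two [Finite F] (hF : Nat.card F = 2) {x : F} (hx : x ≠ 0) : x = 1 := by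
  have : Fintype F := Fintype.ofFinite F
  have h := FiniteField.pow_card_sub_one_eq_one x hx
  rw [← Nat.card_eq_fintype_card, hF, pow_one] at h
  exact h

/-- from the prime field -/
theorem irr2_two [Finite F] (hF : Nat.card F = 2) {s : ℕ} (hm : 2 ^ m - 1 = s) (hs : s.Coprime 30) {f : (ZMod 2)[X]}
    (hirr : Irreducible f)
    (H : ∀ A : Matrix (Fin m) (Fin m) (ZMod 2), A.det ≠ 0 → A ≠ 1 → ∃ X Y : Matrix (Fin m) (Fin m) (ZMod 2),
      A = X * Y ∧ X.charpoly = f ∧ Y.charpoly = f) {A : Matrix (Fin m) (Fin m) F} (hA : A.det = 1) (h1 : A ≠ 1) :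
    Irr2 A := by
  have : Fintype F := Fintype.ofFinite F
  have hF' : Fintype.card F = 2 := by rw [← Nat.card_eq_fintype_card, hF]
  let e : ZMod 2 ≃+* F := ZMod.ringEquivOfPrime F Nat.prime_two hF'
  have hee : ∀ B : Matrix (Fin m) (Fin m) F, (e.symm.mapMatrix B).map e = B := by
    intro B
    ext i j
    simp
  obtain ⟨X, Y, hXY, hX, hY⟩ := H (e.symm.mapMatrix A) (by
    have h2 := RingHom.map_det (e.symm : F →+* ZMod 2) A
    rw [hA, map_one] at h2
    intro h3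
    have h4 : (RingHom.mapMatrix (e.symm : F →+* ZMod 2) A).det = 0 := h3
    rw [h4] at h2
    exact one_ne_zero h2) (by
    intro h2
    apply h1
    rw [← hee A, h2]
    ext i j
    simp [Matrix.one_apply, apply_ite e])
  have h3 : A = X.map e * Y.map e := by
    rw [← hee A, hXY]
    exact Matrix.map_mul (f := (e : ZMod 2 →+* F))
  have h4 : ∀ Z : Matrix (Fin m) (Fin m) (ZMod 2), Z.charpoly = f → Irreducible (Z.map e).charpoly := by
    intro Z hZ
    have h5 : (Z.map e).charpoly = Z.charpoly.map (e : ZMod 2 →+* F) := Matrix.charpoly_map Z (e : ZMod 2 →+* F)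
    rw [h5, hZ]
    exact (MulEquiv.irreducible_iff (Polynomial.mapEquiv e)).2 hirr
  have h5 : (X.map e).det * (Y.map e).det = 1 := by rw [← det_mul, ← h3, hA]
  refine ⟨X.map e, Y.map e, s, s, h3, irrM_of (h4 X hX) (det_two hF (left_ne_zero_of_mul_eq_one h5)) ?_,
    irrM_of (h4 Y hY) (det_two hF (right_ne_zero_of_mul_eq_one h5)) ?_, hs, hs⟩ <;>
  · rw [hF, ← hm]; norm_num

theorem sl_irr [Finite F] {s : ℕ} (hm : (Nat.card F ^ m - 1) / (Nat.card F - 1) = s) (hs : s.Coprime 30)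
    {A : Matrix (Fin m) (Fin m) F} (hA : A.det = 1)
    (H : ∃ x y : SpecialLinearGroup (Fin m) F, (⟨A, hA⟩ : SpecialLinearGroup (Fin m) F) = x * y ∧
      Irreducible x.1.charpoly ∧ Irreducible y.1.charpoly) : Irr2 A := by
  obtain ⟨x, y, hxy, hx, hy⟩ := H
  exact ⟨x.1, y.1, s, s, congrArg Subtype.val hxy, irrM_of hx x.2 hm, irrM_of hy y.2 hm, hs, hs⟩

/-- the list -/
theorem irr2_small [Finite F] (hm : (m = 3 ∧ (Nat.card F = 2 ∨ Nat.card F = 3 ∨ Nat.card F = 4 ∨ Nat.card F = 8 ∨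
      Nat.card F = 9)) ∨ (m = 5 ∧ (Nat.card F = 2 ∨ Nat.card F = 3)) ∨ (m = 7 ∧ Nat.card F = 2))
    {A : Matrix (Fin m) (Fin m) F} (hA : A.det = 1) (h1 : ∀ c : F, A ≠ c • (1 : Matrix (Fin m) (Fin m) F)) :
    Irr2 A := by
  have h1' : A ≠ 1 := by
    intro h
    exact h1 1 (by rw [h, one_smul])
  rcases hm with ⟨rfl, hF⟩ | ⟨rfl, hF⟩ | ⟨rfl, hF⟩
  · rcases hF with hF | hF | hF | hF | hF
    · refine sl_irr (s := 7) (by rw [hF]; norm_num) (by norm_num) hA ?_
      obtain ⟨x, y, h, hx, hy, -, -⟩ := Cfsg.Agent.H85.Pw.p_three_two hF ⟨A, hA⟩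
      exact ⟨x, y, h, hx, hy⟩
    · refine sl_irr (s := 13) (by rw [hF]; norm_num) (by norm_num) hA ?_
      obtain ⟨x, y, h, hx, hy, -, -⟩ := Cfsg.Agent.H85.Pw.p_three_three hF ⟨A, hA⟩
      exact ⟨x, y, h, hx, hy⟩
    · obtain ⟨X, Y, h, hX, hY, hXi, hYi, hX7, hY7, -, -⟩ := Cfsg.Agent.H85.Pw.PThree.mat_three_four hF hA (Or.inr h1)
      exact ⟨X, Y, 7, 7, h, ⟨hXi, hX, hX7⟩, ⟨hYi, hY, hY7⟩, by norm_num, by norm_num⟩
    · refine sl_irr (s := 73) (by rw [hF]; norm_num) (by norm_num) hA ?_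
      obtain ⟨x, y, h, hx, hy, -⟩ := Cfsg.Agent.H126.M3.m3_sl (by omega) (⟨A, hA⟩ : SpecialLinearGroup (Fin 3) F)
        (Or.inr h1)
      exact ⟨x, y, h, hx, hy⟩
    · refine sl_irr (s := 91) (by rw [hF]; norm_num) (by norm_num) hA ?_
      obtain ⟨x, y, h, hx, hy, -⟩ := Cfsg.Agent.H126.M3.m3_sl (by omega) (⟨A, hA⟩ : SpecialLinearGroup (Fin 3) F)
        (Or.inr h1)
      exact ⟨x, y, h, hx, hy⟩
  · rcases hF with hF | hF
    · exact irr2_two hF (s := 31) (by norm_num) (by norm_num) H934.MF.irrFive H934.MF.prodFive hA h1'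
    · obtain ⟨X, Y, h, hX, hY⟩ := Five.p5_3 hF A hA h1
      have : Fact (Nat.Prime 3) := ⟨Nat.prime_three⟩
      have hch : CharP F 3 := (H374.Ore.Sl3.exists_cast (K := F) hF).1
      have h5 : ∀ Z : Matrix (Fin 5) (Fin 5) F, Z.charpoly = Five.pF F → IrrM 121 Z := by
        intro Z hZ
        refine irrM_of (by rw [hZ]; exact Five.pF_irr hF) ?_ (by rw [hF]; norm_num)
        refine det_of_charpoly hZ ?_
        have h3 : (3 : F) = 0 := by
          have : ((Nat.card F : ℕ) : F) = 0 := by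
            have : Fintype F := Fintype.ofFinite F
            rw [Nat.card_eq_fintype_card]
            exact FiniteField.cast_card_eq_zero F
          rw [hF] at this
          exact_mod_cast this
        have h4 : (Five.pF F).coeff 0 = 2 := by
          rw [Five.pF]
          simp [coeff_X, coeff_ofNat_zero]
        rw [h4]
        linear_combination -h3
      exact ⟨X, Y, 121, 121, h, h5 X hX, h5 Y hY, by norm_num, by norm_num⟩
  · exact irr2_two hF (s := 127) (by norm_num) (by norm_num) H934.MF.irrSeven H934.MF.prodSeven hA h1'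

theorem Irr2.fac_fv {A : Matrix (Fin m) (Fin m) F} (h : Irr2 A) (hodd : Odd m) (h2 : 2 ≤ m) :
    Fac 6 (Fv : (V ≃ₗ[F] V) → Prop) A := by
  obtain ⟨X, Y, s, t, hXY, hX, hY, hs, ht⟩ := h
  obtain ⟨X, rfl⟩ := exists_gl hX.det
  obtain ⟨Y, rfl⟩ := exists_gl hY.det
  have e6 : ∀ {a : ℕ}, a.Coprime 30 → a.Coprime 6 := fun h => Nat.Coprime.of_dvd_right (by norm_num) h
  have e5 : ∀ {a : ℕ}, a.Coprime 30 → a.Coprime 5 := fun h => Nat.Coprime.of_dvd_right (by norm_num) h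
  exact ⟨X, Y, by rw [hXY, Units.val_mul], hX.cg_fv hodd h2 (e6 hs) (e5 hs), hY.cg_fv hodd h2 (e6 ht) (e5 ht)⟩

theorem Irr2.fac_one {A : Matrix (Fin m) (Fin m) F} (h : Irr2 A) (hodd : Odd m) (h2 : 2 ≤ m) :
    Fac 6 (fun x : V ≃ₗ[F] V => x = 1) A := by
  obtain ⟨X, Y, s, t, hXY, hX, hY, hs, ht⟩ := h
  obtain ⟨X, rfl⟩ := exists_gl hX.det
  obtain ⟨Y, rfl⟩ := exists_gl hY.det
  have e6 : ∀ {a : ℕ}, a.Coprime 30 → a.Coprime 6 := fun h => Nat.Coprime.of_dvd_right (by norm_num) h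
  exact ⟨X, Y, by rw [hXY, Units.val_mul], hX.cg_one hodd h2 (e6 hs), hY.cg_one hodd h2 (e6 ht)⟩

theorem exists_one_gl (F : Type*) [Field F] [Finite F] (hodd : Odd m) (h3 : 3 ≤ m) :
    ∃ (f : F[X]) (s : ℕ) (X : GL (Fin m) F), One m s f ∧ s.Coprime 6 ∧
      (X : Matrix (Fin m) (Fin m) F).charpoly = f := by
  obtain ⟨p, t, hp, ht⟩ := exists_one F h3 hodd
  obtain ⟨X, hX⟩ := exists_matrix p hp.monic (coeff_zero_ne hp.irr (by rw [hp.deg]; omega)) hp.deg
  exact ⟨p, t, X, hp, ht, hX⟩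

theorem fac_fv_one [Finite F] (hodd : Odd m) (h3 : 3 ≤ m) :
    Fac 6 (Fv : (V ≃ₗ[F] V) → Prop) (1 : Matrix (Fin m) (Fin m) F) := by
  obtain ⟨p, t, X, hp, ht, hX⟩ := exists_one_gl F hodd h3
  have hX' : CG 6 (Fv : (V ≃ₗ[F] V) → Prop) X := by
    refine ⟨det_of_charpoly hX hp.norm, ⟨t, ht, pow_of_charpoly hX hp.dvd⟩, fun x hx => ?_⟩
    obtain ⟨h3, h4⟩ := coprime_reverse_five hp.irr (by rw [hp.deg]; omega) hp.five
    exact copP_of_cop (hx.un h3) (hx.un h4) hp.cop X hX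
  exact ⟨X, X⁻¹, by rw [mul_inv_cancel, Units.val_one], hX', hX'.inv fun x hx => hx.inv⟩

theorem fac_one_one [Finite F] (hodd : Odd m) (h3 : 3 ≤ m) :
    Fac 6 (fun x : V ≃ₗ[F] V => x = 1) (1 : Matrix (Fin m) (Fin m) F) := by
  obtain ⟨p, t, X, hp, ht, hX⟩ := exists_one_gl F hodd h3
  have hX' : CG 6 (fun x : V ≃ₗ[F] V => x = 1) X :=
    (show IrrM t (X : Matrix (Fin m) (Fin m) F) from hp.irrM hX).cg_one hodd (by omega) ht
  exact ⟨X, X⁻¹, by rw [mul_inv_cancel, Units.val_one], hX', hX'.inv fun x hx => by rw [hx, inv_one]⟩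

/-- **All degrees, `q = 2, 3, 4, 9`** -/
theorem fac_fv [Finite F] {k : ℕ} (hk : 1 ≤ k)
    (hF : Nat.card F = 2 ∨ Nat.card F = 3 ∨ Nat.card F = 4 ∨ Nat.card F = 9)
    (hk4 : (Nat.card F = 4 ∨ Nat.card F = 9) → 2 ≤ k) {A : Matrix (Fin (k + 2)) (Fin (k + 2)) F} (hdet : A.det = 1)
    (hA : A = 1 ∨ ∀ c : F, A ≠ c • (1 : Matrix (Fin (k + 2)) (Fin (k + 2)) F)) :
    Fac 6 (Fv : (V ≃ₗ[F] V) → Prop) A := by
  have h5 : (5 : F) ≠ 0 := by
    intro h
    have h1 : ((Nat.card F : ℕ) : F) = 0 := by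
      have : Fintype F := Fintype.ofFinite F
      rw [Nat.card_eq_fintype_card]
      exact FiniteField.cast_card_eq_zero F
    have key : ∀ a b : ℤ, (Nat.card F : ℤ) * a + 5 * b = 1 → False := by
      intro a b hab
      have h2 : (((Nat.card F : ℤ) * a + 5 * b : ℤ) : F) = 1 := by rw [hab, Int.cast_one]
      push_cast at h2
      rw [h1, h] at h2
      simp at h2
    rcases hF with h2 | h2 | h2 | h2
    · exact key (-2) 1 (by rw [h2]; norm_num)
    · exact key 2 (-1) (by rw [h2]; norm_num)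
    · exact key (-1) 1 (by rw [h2]; norm_num)
    · exact key (-1) 2 (by rw [h2]; norm_num)
  rcases Nat.even_or_odd k with he | ho
  · exact fac_even (d := k + 1) (by obtain ⟨a, ha⟩ := he; omega) he.add_one h5 hdet hA
  have hodd : Odd (k + 2) := by
    obtain ⟨a, rfl⟩ := ho
    exact ⟨a + 1, by ring⟩
  have small : Irr2 A ∨ A = 1 → Fac 6 (Fv : (V ≃ₗ[F] V) → Prop) A := by
    rintro (h | rfl)
    · exact h.fac_fv hodd (by omega)
    · exact fac_fv_one hodd (by omega)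
  have small' : (k + 2 = 3 ∧ (Nat.card F = 2 ∨ Nat.card F = 3 ∨ Nat.card F = 4 ∨ Nat.card F = 8 ∨
      Nat.card F = 9)) ∨ (k + 2 = 5 ∧ (Nat.card F = 2 ∨ Nat.card F = 3)) ∨ (k + 2 = 7 ∧ Nat.card F = 2) →
      Fac 6 (Fv : (V ≃ₗ[F] V) → Prop) A := by
    intro h
    apply small
    rcases hA with h1 | h1
    · exact Or.inr h1
    · exact Or.inl (irr2_small h hdet h1)
  by_cases h1 : k = 1
  · apply small'
    rcases hF with h2 | h2 | h2 | h2
    · exact Or.inl ⟨by omega, Or.inl h2⟩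
    · exact Or.inl ⟨by omega, Or.inr (Or.inl h2)⟩
    · have := hk4 (Or.inl h2); omega
    · have := hk4 (Or.inr h2); omega
  have h3 : 3 ≤ k := by obtain ⟨a, ha⟩ := ho; omega
  by_cases h4 : k = 3
  · subst h4
    rcases hF with h2 | h2 | h2
    · exact small' (Or.inr (Or.inl ⟨rfl, Or.inl h2⟩))
    · exact small' (Or.inr (Or.inl ⟨rfl, Or.inr h2⟩))
    · exact fac_odd (d := 4) le_rfl (by decide) h5 hdet hA (exists_four F h2)
  have h6 : 5 ≤ k := by obtain ⟨a, ha⟩ := ho; omega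
  by_cases h7 : k = 5 ∧ Nat.card F = 2
  · exact small' (Or.inr (Or.inr ⟨by omega, h7.2⟩))
  refine fac_odd (d := k + 1) (by omega) ho.add_one h5 hdet hA ?_
  obtain ⟨a, ha⟩ := ho
  have h8 : k + 1 = 2 * (a + 1) := by omega
  rw [h8]
  refine exists_two' F (by omega) ?_
  rintro ⟨h9, h10⟩
  exact h7 ⟨by omega, h9⟩

/-- **degree three** -/
theorem fac_three [Finite F]
    (hF : Nat.card F = 2 ∨ Nat.card F = 3 ∨ Nat.card F = 4 ∨ Nat.card F = 8 ∨ Nat.card F = 9)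
    {A : Matrix (Fin 3) (Fin 3) F} (hdet : A.det = 1)
    (hA : A = 1 ∨ ∀ c : F, A ≠ c • (1 : Matrix (Fin 3) (Fin 3) F)) :
    Fac 6 (fun x : V ≃ₗ[F] V => x = 1) A := by
  rcases hA with rfl | hA
  · exact fac_one_one (by decide) le_rfl
  · exact (irr2_small (Or.inl ⟨rfl, hF⟩) hdet hA).fac_one (by decide) (by norm_num)

end Cfsg.Agent.H126.PwO
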