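import Cfsg.Agent.H126.PwO.Asm

/-!
# S2465, orthogonal groups: the classes `(T - ν) f` (helper126)

`prO_nu` : a frame of length `m ≥ 3` with Schur complement `1` (any middle space), `N = 6`, `q = r ^ e`, `e ≥ 3`,
or `N` a divisor of `q ≥ 4`.
-/

set_option autoImplicit false
set_option linter.unusedSectionVars false

namespace Cfsg.Agent.H126.PwO

open QuadraticMap Matrix Polynomial Cfsg.Agent.LieClassical.OrthCore Cfsg.Agent.LieClassical.OrthTrans
  Cfsg.Agent.LieClassical.OrthFinite Cfsg.Agent.H140.OreO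

variable {F V : Type*} [Field F] [AddCommGroup V] [Module F V] {m : ℕ} {Q : QuadraticForm F V}

theorem cop_rev_of_coeff {f : F[X]} (hm : f.Monic) (hf : Irreducible f) (h0 : f.coeff 0 ≠ 0)
    (h : f.coeff 0 * f.coeff 0 ≠ 1) : IsCoprime f f.reverse := by
  rw [hf.coprime_iff_not_dvd]
  intro hd
  have h1 := Polynomial.eq_mul_leadingCoeff_of_monic_of_dvd_of_natDegree_le hm hd (natDegree_rev h0).le
  have h2 : f.reverse.leadingCoeff = f.coeff 0 := by
    rw [reverse_leadingCoeff, trailingCoeff, natTrailingDegree_eq_zero_of_constantCoeff_ne_zero h0]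
  have h3 : f.reverse.coeff 0 = 1 := by rw [coeff_zero_reverse]; exact hm
  rw [h2] at h1
  rw [h1, mul_coeff_zero, coeff_C_zero] at h3
  exact h h3

theorem isCoprime_lin {f : F[X]} (hf : Irreducible f) (hd : 2 ≤ f.natDegree) (a b : F) (hab : a ≠ 0 ∨ b ≠ 0) :
    IsCoprime f (C a - C b * X) := by
  rw [hf.coprime_iff_not_dvd]
  intro h
  have h0 : (C a - C b * X : F[X]) ≠ 0 := by
    intro h0
    have e1 := congrArg (fun p => coeff p 0) h0
    have e2 := congrArg (fun p => coeff p 1) h0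
    simp at e1 e2
    rcases hab with h | h
    · exact h e1
    · exact h e2
  have h1 := natDegree_le_of_dvd h h0
  have h2 : (C a - C b * X : F[X]).natDegree ≤ 1 := by compute_degree
  omega

theorem reverse_lin (c : F) : (X - C c : F[X]).reverse = 1 - C c * X := by
  rw [reverse, natDegree_X_sub_C, reflect_sub, reflect_one_X, reflect_C, pow_one]

theorem cop_rev_lin {f : F[X]} {c : F} (hf : Irreducible f) (hd : 2 ≤ f.natDegree) (hc : c * c ≠ 1)
    (h : IsCoprime f f.reverse) : IsCoprime ((X - C c) * f) ((X - C c) * f).reverse := by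
  have h0 : f.coeff 0 ≠ 0 := coeff_zero_ne hf hd
  rw [reverse_mul_of_domain, reverse_lin]
  have e1 : IsCoprime f (1 - C c * X) := by
    have := isCoprime_lin hf hd 1 c (Or.inl one_ne_zero)
    rwa [C_1] at this
  have e2 : IsCoprime f.reverse (X - C c) := by
    have := isCoprime_lin (irreducible_rev hf h0) (by rw [natDegree_rev h0]; exact hd) c 1 (Or.inr one_ne_zero)
    rw [C_1, one_mul] at this
    have h3 := this.neg_right
    rwa [neg_sub] at h3
  have e3 : IsCoprime (X - C c : F[X]) (1 - C c * X) := by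
    rw [(irreducible_X_sub_C c).coprime_iff_not_dvd, dvd_iff_isRoot, IsRoot.def, eval_sub, eval_one, eval_mul,
      eval_C, eval_X, sub_eq_zero]
    exact fun h => hc h.symm
  exact IsCoprime.mul_left (IsCoprime.mul_right e3 e2.symm) (IsCoprime.mul_right e1 h)

/-- the polynomial `(T - ν) f` -/
theorem exists_nu (F : Type*) [Field F] [Finite F] {s d : ℕ} (hd : 2 ≤ d) (hs : s ∣ Nat.card F ^ d - 1)
    (hmin : ∀ k, 0 < k → k < d → ¬ s ∣ Nat.card F ^ k - 1)
    (h2 : ¬ s ∣ (Nat.card F ^ d - 1) / (Nat.card F - 1) * 2) :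
    ∃ (f : F[X]) (c : F), f.Monic ∧ Irreducible f ∧ f.natDegree = d ∧ (-1) ^ d * f.coeff 0 * c = 1 ∧
      c * c ≠ 1 ∧ IsCoprime f f.reverse ∧ (X - C c) * f ∣ X ^ s - 1 := by
  obtain ⟨f, hf⟩ := exists_pol F (by omega) hs hmin
  obtain ⟨b, hb⟩ : ∃ b, b = (-1) ^ d * f.coeff 0 := ⟨_, rfl⟩
  have hf0 : f.coeff 0 ≠ 0 := coeff_zero_ne hf.irr (by rw [hf.deg]; exact hd)
  have hb0 : b ≠ 0 := by rw [hb]; exact mul_ne_zero (pow_ne_zero _ (neg_ne_zero.2 one_ne_zero)) hf0
  have hbs : b ^ s = 1 := by rw [hb, hf.coef]; exact dvd_mul_left _ _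
  have hb2 : b * b ≠ 1 := by
    intro h
    apply h2
    rw [← hf.coef 2, ← hb, pow_two, h]
  have hc2 : b⁻¹ * b⁻¹ ≠ 1 := by
    intro h
    apply hb2
    rw [← mul_inv, inv_eq_one] at h
    exact h
  refine ⟨f, b⁻¹, hf.monic, hf.irr, hf.deg, ?_, hc2, ?_, ?_⟩
  · rw [← hb, mul_inv_cancel₀ hb0]
  · apply cop_rev_of_coeff hf.monic hf.irr hf0
    intro h
    apply hb2
    have h3 : ((-1 : F) ^ d) * (-1) ^ d = 1 := by
      rw [← mul_pow]; simp
    rw [hb]
    linear_combination h3 + (-1) ^ d * (-1) ^ d * h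
  · have h4 : IsCoprime (X - C b⁻¹ : F[X]) f := by
      have := isCoprime_lin hf.irr (by rw [hf.deg]; exact hd) b⁻¹ 1 (Or.inr one_ne_zero)
      rw [C_1, one_mul] at this
      have h3 := this.neg_right
      rw [neg_sub] at h3
      exact h3.symm
    refine h4.mul_dvd ?_ ((hf.dvd s).2 dvd_rfl)
    rw [dvd_iff_isRoot, IsRoot.def, eval_sub, eval_pow, eval_X, eval_one, inv_pow, hbs, inv_one, sub_self]

/-- **The classes `(T - ν) f`.** -/
theorem prO_of_nu [Finite F] [FiniteDimensional F V] {N k : ℕ} (hN : 5 ≤ Module.finrank F V)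
    {w w' : Fin (k + 2) → V} (hQ : Nondeg Q)
    (hf : Frame Q w w') {g : V ≃ₗ[F] V} (hg : g ∈ O Q) (hS : SchurOne Q g w w')
    (hdet : (corner Q g w w').det = 1)
    (hA : corner Q g w w' = 1 ∨ ∀ c : F, corner Q g w w' ≠ c • (1 : Matrix (Fin (k + 2)) (Fin (k + 2)) F))
    {s : ℕ} (hk : 1 ≤ k) (hsN : s.Coprime N) (hs : s ∣ Nat.card F ^ (k + 1) - 1)
    (hmin : ∀ j, 0 < j → j < k + 1 → ¬ s ∣ Nat.card F ^ j - 1)
    (h2 : ¬ s ∣ (Nat.card F ^ (k + 1) - 1) / (Nat.card F - 1) * 2) : PrO N Q g := by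
  obtain ⟨f, c, hfm, hfi, hfd, hf0, hc, hcop, hdvd⟩ := exists_nu F (by omega) hs hmin h2
  have hd2 : 2 ≤ f.natDegree := by rw [hfd]; omega
  have hpm : ((X - C c) * f).Monic := (monic_X_sub_C c).mul hfm
  have hev : ((X - C c) * f).eval 1 ≠ 0 := by
    rw [eval_mul, eval_sub, eval_X, eval_C]
    refine mul_ne_zero ?_ (eval_ne_zero hfi hd2 1)
    intro h
    rw [sub_eq_zero] at h
    apply hc
    rw [← h, mul_one]
  have hev' : ((X - C c) * f).reverse.eval 1 ≠ 0 := by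
    have : Invertible (1 : F) := invertibleOne
    have h3 := eval₂_reverse_mul_pow (RingHom.id F) (1 : F) ((X - C c) * f)
    rw [invOf_one, one_pow, mul_one] at h3
    change eval₂ (RingHom.id F) 1 ((X - C c) * f).reverse ≠ 0
    rw [h3]
    exact hev
  have hC : CopP (k + 2) ((X - C c) * f) (1 : perp Q w w' ≃ₗ[F] perp Q w w') :=
    copP_of_cop (un_one hev) (un_one hev') (cop_rev_lin hfi hd2 hc hcop)
  refine prO_pol hN hQ hf hg hS hdet hA hpm ?_ ?_ hfm hfd hf0 (x := 1) (O _).one_mem hC (by rw [inv_one]; exact hC)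
    odd_one (one_pow 1) hsN hsN hdvd hdvd (one_pow s) (one_pow s)
  · rw [(monic_X_sub_C c).natDegree_mul hfm, natDegree_X_sub_C, hfd]; omega
  · rw [mul_coeff_zero, coeff_sub, coeff_X_zero, coeff_C_zero, zero_sub]
    linear_combination hf0

/-- **`N = r ≥ 5`** -/
theorem prO_own [Finite F] [FiniteDimensional F V] {r k : ℕ} (hN : 5 ≤ Module.finrank F V)
    {w w' : Fin (k + 2) → V} (hQ : Nondeg Q)
    (hf : Frame Q w w') {g : V ≃ₗ[F] V} (hg : g ∈ O Q) (hS : SchurOne Q g w w')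
    (hdet : (corner Q g w w').det = 1)
    (hA : corner Q g w w' = 1 ∨ ∀ c : F, corner Q g w w' ≠ c • (1 : Matrix (Fin (k + 2)) (Fin (k + 2)) F))
    (hk : 1 ≤ k) (hr : r ∣ Nat.card F) (hq : 4 ≤ Nat.card F) : PrO r Q g := by
  obtain ⟨s, h1, h2, h3, h4⟩ := exists_own hr hq (show 2 ≤ k + 1 by omega)
  exact prO_of_nu hN hQ hf hg hS hdet hA hk h1 h2 h3 h4

/-- **`N = 6`, `q = r ^ e`, `e ≥ 3`** -/
theorem prO_six [Finite F] [FiniteDimensional F V] {r e k : ℕ} (hN : 5 ≤ Module.finrank F V)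
    {w w' : Fin (k + 2) → V} (hQ : Nondeg Q)
    (hf : Frame Q w w') {g : V ≃ₗ[F] V} (hg : g ∈ O Q) (hS : SchurOne Q g w w')
    (hdet : (corner Q g w w').det = 1)
    (hA : corner Q g w w' = 1 ∨ ∀ c : F, corner Q g w w' ≠ c • (1 : Matrix (Fin (k + 2)) (Fin (k + 2)) F))
    (hk : 1 ≤ k) (hr : 2 ≤ r) (he : 3 ≤ e) (hq : Nat.card F = r ^ e) (h8 : ¬ (Nat.card F = 8 ∧ k = 1)) :
    PrO 6 Q g := by
  obtain ⟨s, h1, h2, h3, h4⟩ := exists_six hr he (show 2 ≤ k + 1 by omega) (by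
    rw [← hq]; exact fun h => h8 ⟨h.1, by omega⟩)
  rw [← hq] at h2 h3 h4
  exact prO_of_nu hN hQ hf hg hS hdet hA hk h1 h2 h3 h4

end Cfsg.Agent.H126.PwO
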