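import Cfsg.Agent.H126.PwO.Nu

/-!
# S2465, orthogonal groups: polynomials of norm one (helper126)

* `exists_one` : `f` irreducible of odd degree `d ≥ 3`, norm one, order a prime `≥ 5`, prime to its reciprocal;
* `exists_two` : `f` irreducible of even degree `d`, norm one, order prime to `6`, prime to its reciprocal.
-/

set_option autoImplicit false
set_option linter.unusedSectionVars false

namespace Cfsg.Agent.H126.PwO

open QuadraticMap Matrix Polynomial Cfsg.Agent.LieClassical.OrthCore Cfsg.Agent.LieClassical.OrthTrans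
  Cfsg.Agent.LieClassical.OrthFinite Cfsg.Agent.H140.OreO

variable {F V : Type*} [Field F] [AddCommGroup V] [Module F V] {m : ℕ} {Q : QuadraticForm F V}

/-- a polynomial of norm one, prime to its reciprocal, of order dividing `s` -/
structure One (d s : ℕ) (f : F[X]) : Prop where
  monic : f.Monic
  irr : Irreducible f
  deg : f.natDegree = d
  norm : (-1) ^ d * f.coeff 0 = 1
  cop : IsCoprime f f.reverse
  dvd : f ∣ X ^ s - 1
  five : ¬ f ∣ X ^ 5 - 1

theorem One.eval {d s : ℕ} {f : F[X]} (h : One d s f) (hd : 2 ≤ d) (x : F) : f.eval x ≠ 0 :=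
  eval_ne_zero h.irr (by rw [h.deg]; exact hd) x

theorem One.dvd' {d s : ℕ} {f : F[X]} (h : One d s f) (hd : 2 ≤ d) : (X - C 1) * f ∣ X ^ s - 1 := by
  have h4 : IsCoprime (X - C 1 : F[X]) f := by
    rw [(irreducible_X_sub_C (1 : F)).coprime_iff_not_dvd, dvd_iff_isRoot]
    exact h.eval hd 1
  refine h4.mul_dvd ?_ h.dvd
  rw [dvd_iff_isRoot, IsRoot.def, eval_sub, eval_pow, eval_X, eval_one, one_pow, sub_self]

theorem exists_one (F : Type*) [Field F] [Finite F] {d : ℕ} (hd : 3 ≤ d) (hodd : Odd d) :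
    ∃ (f : F[X]) (s : ℕ), One d s f ∧ s.Coprime 6 := by
  have hq : 2 ≤ Nat.card F := Finite.one_lt_card
  obtain ⟨s, hs, hs5, -, hsd, hmin⟩ := exists_prime_odd hq hd (by
    rintro ⟨-, rfl⟩
    exact (Nat.not_odd_iff_even.2 (by decide)) hodd)
  obtain ⟨f, hf⟩ := exists_pol F (by omega) hsd hmin
  refine ⟨f, s, ⟨hf.monic, hf.irr, hf.deg, ?_, hf.cop (not_dvd_add (by omega) hodd hsd hmin ?_), ?_, ?_⟩,
    coprime_six hs hs5⟩
  · have := (hf.coef 1).2 (by rw [mul_one]; exact dvd_div hq hs (by omega) hsd hmin)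
    rwa [pow_one] at this
  · intro h
    have := Nat.le_of_dvd (by norm_num) h
    omega
  · exact (hf.dvd s).2 dvd_rfl
  · rw [hf.dvd]
    intro h
    have h5 : s = 5 := (Nat.prime_dvd_prime_iff_eq hs (by norm_num)).1 h
    subst h5
    -- the order of `q` modulo `5` is not odd `≥ 3`
    have h4 : 5 ∣ Nat.card F ^ 4 - 1 := by
      have hq5 : ¬ 5 ∣ Nat.card F := by
        intro h6
        have h7 : 5 ∣ Nat.card F ^ d := dvd_pow h6 (by omega)
        have h8 : 1 ≤ Nat.card F ^ d := Nat.one_le_pow _ _ (by omega)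
        omega
      have h6 : Nat.card F ^ 4 % 5 = 1 := by
        have h7 : Nat.card F % 5 = 1 ∨ Nat.card F % 5 = 2 ∨ Nat.card F % 5 = 3 ∨ Nat.card F % 5 = 4 := by omega
        rcases h7 with h7 | h7 | h7 | h7 <;> rw [Nat.pow_mod, h7]
      omega
    obtain ⟨k, hk⟩ := hodd
    have h9 : d = 3 ∨ 5 ≤ d := by omega
    rcases h9 with rfl | h9
    · -- `5 ∣ q ^ 3 - 1` and `5 ∣ q ^ 4 - 1`
      have h10 : Nat.card F ^ 4 - 1 = Nat.card F * (Nat.card F ^ 3 - 1) + (Nat.card F ^ 1 - 1) := by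
        have h11 : 1 ≤ Nat.card F ^ 3 := Nat.one_le_pow _ _ (by omega)
        have h12 : Nat.card F ^ 4 = Nat.card F * Nat.card F ^ 3 := by ring
        rw [h12, Nat.mul_sub, mul_one, pow_one]
        have h13 : Nat.card F ≤ Nat.card F * Nat.card F ^ 3 := Nat.le_mul_of_pos_right _ h11
        omega
      rw [h10] at h4
      exact hmin 1 one_pos (by norm_num) ((Nat.dvd_add_right (hsd.mul_left _)).1 h4)
    · exact hmin 4 (by norm_num) (by omega) h4

/-- even degree -/
theorem exists_two (F : Type*) [Field F] [Finite F] {e : ℕ} (he : 2 ≤ e)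
    (h26 : ¬ (Nat.card F = 2 ∧ e = 3)) {l : ℕ} (hl : l.Prime) (hl5 : 5 ≤ l) (hle : l ∣ Nat.card F ^ e - 1)
    (hl1 : ¬ l ∣ Nat.card F - 1) : ∃ (f : F[X]) (s : ℕ), One (2 * e) s f ∧ s.Coprime 6 := by
  have hq : 2 ≤ Nat.card F := Finite.one_lt_card
  obtain ⟨s, hs, hs5, -, hsd, hmin⟩ := exists_prime_odd hq (show 3 ≤ 2 * e by omega) (by
    rintro ⟨h1, h2⟩
    exact h26 ⟨h1, by omega⟩)
  have hls : l ≠ s := by
    rintro rfl
    exact hmin e (by omega) (by omega) hle
  have hcop : Nat.Coprime s l := (Nat.coprime_primes hs hl).2 hls.symm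
  have hpow : ∀ k, 1 ≤ Nat.card F ^ k := fun k => Nat.one_le_pow _ _ (by omega)
  have h2e : Nat.card F ^ (2 * e) - 1 = (Nat.card F ^ e + 1) * (Nat.card F ^ e - 1) := by
    have h5 := Nat.sq_sub_sq (Nat.card F ^ e) 1
    rw [one_pow] at h5
    rw [mul_comm 2 e, pow_mul, h5]
  have hld : l ∣ Nat.card F ^ (2 * e) - 1 := by rw [h2e]; exact hle.mul_left _
  have hD : s * l ∣ Nat.card F ^ (2 * e) - 1 := hcop.mul_dvd_of_dvd_of_dvd hsd hld
  obtain ⟨f, hf⟩ := exists_pol F (by omega) hD (fun k h1 h2 h3 => hmin k h1 h2 ((dvd_mul_right _ _).trans h3))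
  refine ⟨f, s * l, ⟨hf.monic, hf.irr, hf.deg, ?_, hf.cop ?_, (hf.dvd _).2 dvd_rfl, ?_⟩,
    Nat.Coprime.mul_left (coprime_six hs hs5) (coprime_six hl hl5)⟩
  · have := (hf.coef 1).2 (by
      rw [mul_one]
      obtain ⟨M, hM, hM'⟩ := div_eq (d := 2 * e) hq
      obtain ⟨M₁, hM₁, -⟩ := div_eq (d := e) hq
      refine hcop.mul_dvd_of_dvd_of_dvd (dvd_div hq hs (by omega) hsd hmin) ?_
      rw [hM']
      rw [hM] at hld
      rcases hl.dvd_mul.1 hld with h | h
      · exact h
      · exact absurd h hl1)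
    rwa [pow_one] at this
  · intro i hi h
    have hsi : s ∣ Nat.card F ^ i + 1 := (dvd_mul_right _ _).trans h
    have hli : l ∣ Nat.card F ^ i + 1 := (dvd_mul_left _ _).trans h
    rcases Nat.eq_zero_or_pos i with rfl | hi0
    · have := Nat.le_of_dvd (by norm_num) hsi
      norm_num at this
      omega
    have h3 : s ∣ Nat.card F ^ (2 * i) - 1 := by
      have h5 := Nat.sq_sub_sq (Nat.card F ^ i) 1
      rw [one_pow] at h5
      rw [mul_comm 2 i, pow_mul, h5]
      exact hsi.mul_right _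
    have hie : i = e := by
      rcases lt_trichotomy i e with h5 | h5 | h5
      · exact absurd h3 (hmin _ (by omega) (by omega))
      · exact h5
      · exfalso
        have h6 : Nat.card F ^ (2 * i) - 1 = Nat.card F ^ (2 * i - 2 * e) * (Nat.card F ^ (2 * e) - 1) +
            (Nat.card F ^ (2 * i - 2 * e) - 1) := by
          have h7 : Nat.card F ^ (2 * i) = Nat.card F ^ (2 * i - 2 * e) * Nat.card F ^ (2 * e) := by
            rw [← pow_add]; congr 1; omega
          have h8 := hpow (2 * i - 2 * e)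
          have h9 := hpow (2 * e)
          rw [h7, Nat.mul_sub, mul_one]
          have h10 : Nat.card F ^ (2 * i - 2 * e) ≤ Nat.card F ^ (2 * i - 2 * e) * Nat.card F ^ (2 * e) :=
            Nat.le_mul_of_pos_right _ h9
          omega
        rw [h6] at h3
        exact hmin _ (by omega) (by omega) ((Nat.dvd_add_right (hsd.mul_left _)).1 h3)
    rw [hie] at hli
    have h11 : l ∣ 2 := by
      have h12 : Nat.card F ^ e + 1 = (Nat.card F ^ e - 1) + 2 := by have := hpow e; omega
      rw [h12] at hli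
      exact (Nat.dvd_add_right hle).1 hli
    have := Nat.le_of_dvd (by norm_num) h11
    omega
  · rw [hf.dvd]
    intro h
    have h5 := Nat.le_of_dvd (by norm_num) h
    nlinarith

/-- even degree `2 e`, `e ≥ 3` -/
theorem exists_two' (F : Type*) [Field F] [Finite F] {e : ℕ} (he : 3 ≤ e)
    (h26 : ¬ (Nat.card F = 2 ∧ e = 3)) : ∃ (f : F[X]) (s : ℕ), One (2 * e) s f ∧ s.Coprime 6 := by
  have hq : 2 ≤ Nat.card F := Finite.one_lt_card
  by_cases h : Nat.card F = 2 ∧ e = 6
  · exact exists_two F (by omega) h26 (l := 7) (by norm_num) (by norm_num) (by rw [h.1, h.2]; norm_num)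
      (by rw [h.1]; norm_num)
  · obtain ⟨l, hl, hl5, -, hld, hlm⟩ := exists_prime_odd hq he h
    exact exists_two F (by omega) h26 hl hl5 hld (by have := hlm 1 one_pos (by omega); rwa [pow_one] at this)

/-- degree `4` -/
theorem exists_four (F : Type*) [Field F] [Finite F] (hF : Nat.card F = 4 ∨ Nat.card F = 9) :
    ∃ (f : F[X]) (s : ℕ), One 4 s f ∧ s.Coprime 6 := by
  refine exists_two F (e := 2) le_rfl (by omega) (l := 5) (by norm_num) le_rfl ?_ ?_ <;>
    rcases hF with h | h <;> rw [h] <;> norm_num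

end Cfsg.Agent.H126.PwO
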