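import Cfsg.Agent.H140.OreO.Rec
import Cfsg.Agent.H434.CornMain
import Cfsg.Agent.H78.Pw.Base

/-!
# S2465, orthogonal groups: products of two elements of prescribed order (helper126)

* `PrO N Q g` : `g = a * b`, `a, b ∈ Om Q`, `a ^ s = 1`, `b ^ t = 1`, `s, t` prime to `N`.
* `stepPr` : `g = u₁ * lev A g₁ * u₂`, `A = X * Y`, `g₁ = x * y`.
* `prO_of_corner` : the case of Schur complement `1`.
-/

set_option autoImplicit false
set_option linter.unusedSectionVars false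

namespace Cfsg.Agent.H126.PwO

open QuadraticMap Matrix Cfsg.Agent.LieClassical.OrthCore Cfsg.Agent.LieClassical.OrthTrans
  Cfsg.Agent.LieClassical.OrthFinite Cfsg.Agent.H140.OreO

variable {F V V' : Type*} [Field F] [AddCommGroup V] [Module F V] [AddCommGroup V'] [Module F V'] {n : ℕ}
  {Q : QuadraticForm F V} {Q' : QuadraticForm F V'}

/-- `g` is a product of two elements of `Ω` of order prime to `N`. -/
def PrO (N : ℕ) (Q : QuadraticForm F V) (g : V ≃ₗ[F] V) : Prop :=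
  ∃ a ∈ Om Q, ∃ b ∈ Om Q, ∃ s t : ℕ, g = a * b ∧ s.Coprime N ∧ t.Coprime N ∧ a ^ s = 1 ∧ b ^ t = 1

theorem PrO.of_autE {N : ℕ} {e : V ≃ₗ[F] V'} (he : ∀ v, Q' (e v) = Q v) {g : V ≃ₗ[F] V}
    (h : PrO N Q' (autE e g)) : PrO N Q g := by
  obtain ⟨a', ha', b', hb', s, t, e', hs, ht, has, hbt⟩ := h
  obtain ⟨a, rfl⟩ := (autE e).surjective a'
  obtain ⟨b, rfl⟩ := (autE e).surjective b'
  refine ⟨a, (autE_mem_Om he).1 ha', b, (autE_mem_Om he).1 hb', s, t, ?_, hs, ht, ?_, ?_⟩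
  · apply (autE e).injective
    rw [e', map_mul]
  · apply (autE e).injective
    rw [map_pow, has, map_one]
  · apply (autE e).injective
    rw [map_pow, hbt, map_one]

theorem mulVec_inv_cancel (X : GL (Fin n) F) (a : Fin n → F) :
    ((X⁻¹ : GL (Fin n) F) : Matrix (Fin n) (Fin n) F) *ᵥ ((X : Matrix (Fin n) (Fin n) F) *ᵥ a) = a := by
  rw [mulVec_mulVec, ← Units.val_mul, inv_mul_cancel, Units.val_one, one_mulVec]

theorem inv_apply_eq' {h : V ≃ₗ[F] V} {x y : V} : h⁻¹ x = y ↔ x = h y := LinearEquiv.symm_apply_eq h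

theorem Cop.inv {X : GL (Fin n) F} {h : V ≃ₗ[F] V} (hc : Cop X h) : Cop X⁻¹ h⁻¹ := by
  have hti : ti X⁻¹ = (ti X)⁻¹ := ti_inv X
  refine ⟨fun f hf => hc.a f fun a => ?_, fun f hf => hc.b f fun v => ?_, fun f h0 hf => hc.c f h0 fun a => ?_,
    fun f hf => hc.a' f fun a => ?_, fun f hf => hc.b' f fun v => ?_, fun f h0 hf => hc.c' f h0 fun a => ?_⟩
  · have h1 := hf ((X : Matrix (Fin n) (Fin n) F) *ᵥ a)
    rw [mulVec_inv_cancel] at h1
    exact inv_apply_eq'.1 h1.symm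
  · have h1 := hf (h v)
    have h2 : h⁻¹ (h v) = v := LinearEquiv.symm_apply_apply h v
    rw [h2, hti] at h1
    have h3 := mulVec_inv_cancel (ti X)⁻¹ (f (h v))
    rw [inv_inv, ← h1] at h3
    exact h3.symm
  · have h1 := hf ((X : Matrix (Fin n) (Fin n) F) *ᵥ a)
    rw [mulVec_inv_cancel, hti] at h1
    have h3 := mulVec_inv_cancel (ti X)⁻¹ (f ((X : Matrix (Fin n) (Fin n) F) *ᵥ a))
    rw [inv_inv, ← h1] at h3
    exact h3.symm
  · have h1 := hf ((ti X : Matrix (Fin n) (Fin n) F) *ᵥ a)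
    rw [hti, mulVec_inv_cancel] at h1
    exact inv_apply_eq'.1 h1.symm
  · have h1 := hf (h v)
    have h2 : h⁻¹ (h v) = v := LinearEquiv.symm_apply_apply h v
    rw [h2] at h1
    have h3 := mulVec_inv_cancel X⁻¹ (f (h v))
    rw [inv_inv, ← h1] at h3
    exact h3.symm
  · have h1 := hf ((ti X : Matrix (Fin n) (Fin n) F) *ᵥ a)
    rw [hti, mulVec_inv_cancel] at h1
    have h3 := mulVec_inv_cancel X⁻¹ (f ((ti X : Matrix (Fin n) (Fin n) F) *ᵥ a))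
    rw [inv_inv, ← h1] at h3
    exact h3.symm

/-- elements of odd order are in `Ω` -/
theorem mem_Om_of_pow [FiniteDimensional F V] (hG : Good Q) {g : V ≃ₗ[F] V} (hg : g ∈ O Q) {s : ℕ}
    (hs : Odd s) (h : g ^ s = 1) : g ∈ Om Q := by
  let H : Subgroup (Abelianization (O Q)) :=
    { carrier := {a | a * a = 1}
      one_mem' := mul_one 1
      mul_mem' := fun {a b} ha hb => by
        change a * b * (a * b) = 1
        have ha' : a * a = 1 := ha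
        have hb' : b * b = 1 := hb
        rw [mul_mul_mul_comm, ha', hb', mul_one]
      inv_mem' := fun {a} ha => by
        change a⁻¹ * a⁻¹ = 1
        have ha' : a * a = 1 := ha
        rw [← _root_.mul_inv_rev, ha', inv_one] }
  have h1 : H141.SpinFacts.pj Q ⟨g, hg⟩ * H141.SpinFacts.pj Q ⟨g, hg⟩ = 1 :=
    H141.SpinFacts.pj_mem hG H (fun v hv => H141.SpinFacts.pj_rO_sq hv) ⟨g, hg⟩
  have h2 : (⟨g, hg⟩ : O Q) ^ s = 1 := Subtype.ext h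
  obtain ⟨k, rfl⟩ := hs
  have h3 := congrArg (H141.SpinFacts.pj Q) h2
  rw [map_pow, map_one, pow_succ, pow_mul, pow_two, h1, one_pow, one_mul] at h3
  exact (H141.SpinFacts.pj_eq_one_iff _).1 h3

section Fin

variable [Finite F] [FiniteDimensional F V]

/-- **STEP.** -/
theorem stepPr {A X Y : GL (Fin n) F} {g₁ x y : V ≃ₗ[F] V} {u₁ u₂ : M F V n ≃ₗ[F] M F V n}
    (hu₁ : u₁ ∈ Um n Q) (hu₂ : u₂ ∈ Up n Q) (hA : A = X * Y) (hg : g₁ = x * y) (hx : x ∈ O Q) (hy : y ∈ O Q)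
    (hXx : Cop X x) (hYy : Cop Y y) :
    ∃ v₁ ∈ Om (MQ n Q), ∃ v₂ ∈ Om (MQ n Q),
      u₁ * lev A g₁ * u₂ = (v₁ * lev X x * v₁⁻¹) * (v₂ * lev Y y * v₂⁻¹) := by
  obtain ⟨v₁, -, hv₁', e₁⟩ := hXx.exists_um hx hu₁
  obtain ⟨v₂, -, hv₂', e₂⟩ := hYy.exists_up hy (lev_conj_Up (A := Y) hy hu₂)
  refine ⟨v₁, hv₁', v₂, hv₂', ?_⟩
  rw [← e₁, ← e₂, hA, hg, lev_mul]
  group

theorem lev_pow (A : GL (Fin n) F) (h : V ≃ₗ[F] V) (s : ℕ) : lev A h ^ s = lev (A ^ s) (h ^ s) := by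
  induction s with
  | zero => rw [pow_zero, pow_zero, pow_zero, lev_one]
  | succ s ih => rw [pow_succ, pow_succ, pow_succ, ih, lev_mul]

/-- **model form** -/
theorem prO_model {N : ℕ} {g : M F V n ≃ₗ[F] M F V n} {X Y : GL (Fin n) F} {g₁ x y : V ≃ₗ[F] V}
    {u₁ u₂ : M F V n ≃ₗ[F] M F V n}
    (hu₁ : u₁ ∈ Um n Q) (hu₂ : u₂ ∈ Up n Q) (hgu : g = u₁ * lev (X * Y) g₁ * u₂) (hg₁ : g₁ = x * y)
    (hx : x ∈ O Q) (hy : y ∈ O Q) (hXx : Cop X x) (hYy : Cop Y y)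
    (hXO : lev X x ∈ Om (MQ n Q)) (hYO : lev Y y ∈ Om (MQ n Q))
    {s t : ℕ} (hs : s.Coprime N) (ht : t.Coprime N) (hXs : X ^ s = 1) (hxs : x ^ s = 1) (hYt : Y ^ t = 1)
    (hyt : y ^ t = 1) : PrO N (MQ n Q) g := by
  obtain ⟨v₁, hv₁, v₂, hv₂, e⟩ := stepPr hu₁ hu₂ rfl hg₁ hx hy hXx hYy
  refine ⟨_, (Om _).mul_mem ((Om _).mul_mem hv₁ hXO) ((Om _).inv_mem hv₁), _,
    (Om _).mul_mem ((Om _).mul_mem hv₂ hYO) ((Om _).inv_mem hv₂), s, t, by rw [hgu, e], hs, ht, ?_, ?_⟩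
  · rw [conj_pow, lev_pow, hXs, hxs, lev_one, mul_one, mul_inv_cancel]
  · rw [conj_pow, lev_pow, hYt, hyt, lev_one, mul_one, mul_inv_cancel]

/-- the Schur complement -/
theorem schur_one_of {g : M F V n ≃ₗ[F] M F V n} {A : GL (Fin n) F} {g₁ : V ≃ₗ[F] V}
    {u₁ u₂ : M F V n ≃ₗ[F] M F V n} (hu₁ : u₁ ∈ Um n Q) (hu₂ : u₂ ∈ Up n Q) (e : g = u₁ * lev A g₁ * u₂)
    {v v' : V} {c d : Fin n → F} (h : g (c, v, 0) = (0, v', d)) : g₁ v = v' := by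
  have h1 : (u₂ (c, v, 0)).2.1 = v := hu₂.2.2.1 _ rfl
  have h3 : u₁ (lev A g₁ (u₂ (c, v, 0))) = (0, v', d) := by
    rw [← h, e]; rfl
  have h4 : (lev A g₁ (u₂ (c, v, 0))).1 = 0 := by
    rw [← hu₁.2.1, h3]
  have h5 := hu₁.2.2.1 _ h4
  rw [h3, lev_apply, h1] at h5
  exact h5.symm

/-- **Schur complement `1`.** -/
theorem prO_of_corner {N m : ℕ} (hN : 5 ≤ Module.finrank F V) {w w' : Fin m → V} (hQ : Nondeg Q)
    (hf : Frame Q w w') {g : V ≃ₗ[F] V} (hg : g ∈ O Q)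
    (hS : SchurOne Q g w w') {X Y : GL (Fin m) F}
    (hXY : corner Q g w w' = ((X * Y : GL (Fin m) F) : Matrix (Fin m) (Fin m) F))
    {x : perp Q w w' ≃ₗ[F] perp Q w w'} (hx : x ∈ O (res Q w w'))
    (hXx : Cop X x) (hYy : Cop Y x⁻¹)
    (hX : (X : Matrix (Fin m) (Fin m) F).det = 1) (hY : (Y : Matrix (Fin m) (Fin m) F).det = 1)
    {k : ℕ} (hk : Odd k) (hxk : x ^ k = 1)
    {s t : ℕ} (hs : s.Coprime N) (ht : t.Coprime N) (hXs : X ^ s = 1) (hxs : x ^ s = 1) (hYt : Y ^ t = 1)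
    (hyt : x ^ t = 1) : PrO N Q g := by
  have he : ∀ v, MQ m (res Q w w') (hf.toModel v) = Q v := hf.MQ_toModel
  have hQ1 := hf.nondeg_res hQ
  have hG : Good (MQ m (res Q w w')) := by
    apply good_of_finite (nondeg_MQ hQ1)
    rw [← hf.toModel.finrank_eq]; omega
  refine PrO.of_autE he ?_
  obtain ⟨u₁, hu₁, g₁, hg₁, u₂, hu₂, e⟩ := decomp ((autE_mem_O he).2 hg) (X * Y) (fun a => by
    rw [corner_model, hXY])
  have h1 : g₁ = 1 := by
    apply LinearEquiv.ext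
    intro v
    obtain ⟨c, d, hcd⟩ := schur_model hf hS v
    exact schur_one_of hu₁ hu₂ e hcd
  have hO : ∀ (Z : GL (Fin m) F) (z : perp Q w w' ≃ₗ[F] perp Q w w'), (Z : Matrix (Fin m) (Fin m) F).det = 1 →
      z ∈ O (res Q w w') → z ^ k = 1 → lev Z z ∈ Om (MQ m (res Q w w')) := by
    intro Z z hZ hz hzk
    have h2 : lev Z z = lev Z 1 * lev 1 z := by rw [← lev_mul, mul_one, one_mul]
    rw [h2]
    refine (Om _).mul_mem (lev_det_one_mem hG hZ) (mem_Om_of_pow hG (lev_mem hz) hk ?_)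
    rw [lev_pow, one_pow, hzk, lev_one]
  refine prO_model hu₁ hu₂ e (x := x) (y := x⁻¹) ?_ hx ((O _).inv_mem hx) hXx hYy (hO X x hX hx hxk)
    (hO Y x⁻¹ hY ((O _).inv_mem hx) (by rw [inv_pow, hxk, inv_one])) hs ht hXs hxs hYt
    (by rw [inv_pow, hyt, inv_one])
  rw [h1, mul_inv_cancel]

end Fin

end Cfsg.Agent.H126.PwO
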